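import Cfsg.Agent.Lib.MonsterLocal.Cases
import Cfsg.Agent.EqLemmas

/-!
# A subgroup of order three of Co1 with normaliser `S3 × A9`

The centraliser of the permutation `threeFix.pi` has order at most `3 |A9|` and contains an `A9`
generated by lifts commuting with six monomial permutations forming an `S3` around it.

* `exists_three` : a subgroup of order three whose normaliser is `S3 × A9`
-/

set_option autoImplicit false
set_option maxRecDepth 100000
set_option linter.style.haveILetI false
open Cfsg

namespace Cfsg.Agent.CoOneLocal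

open Monster MonsterLattice MonsterLocal AltPresent Leech

/-- The code of the permutation of M24 attached to a permutation of three points. -/
def symCode (σ : Equiv.Perm (Fin 3)) : ℕ :=
  if σ 1 = σ 0 + 1 then
    [0xbdab49ca307b9ac5a928398a418820, 0xa21ab0b8a298c10bd88a4c4c7931f5,
      0x5a81778ccc0caa2a20f6216297426d].getD (σ 0).val 0
  else
    [0xa29b70b8a27caac5d8e849a241c260, 0x5d81478ccc9b9b0ba12a244a790835,
      0xba2ab9ca3008c02a2896394c9731ed].getD (σ 0).val 0

/-- A matrix invariant under a permutation of rows and columns. -/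
def invMat (d : ℕ) (A : MatData) : Bool :=
  (List.range 24).all fun i => (List.range 24).all fun j =>
    (A.L.getD (Golay.fn d i) []).getD (Golay.fn d j) 0 == (A.L.getD i []).getD j 0

theorem symCode_ok :
    (∀ σ, Golay.isAut (symCode σ) = true ∧ threeX.all (invMat (symCode σ)) = true) ∧
    (∀ σ τ, ∀ i < 24, Golay.fn (symCode (σ * τ)) i = Golay.fn (symCode σ) (Golay.fn (symCode τ) i)) ∧
    (∀ σ, σ ≠ 1 → (List.range 24).any (fun i => Golay.fn (symCode σ) i != i) = true) ∧
    (∀ i < 24, Golay.fn (symCode (finRotate 3)) i = Golay.fn threeFix.code i) := by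
  decide +kernel

/-- The symmetric group of degree three in M24. -/
noncomputable def symHom : Equiv.Perm (Fin 3) →* M24 :=
  MonoidHom.mk' (fun σ => m24Of (symCode σ)) fun σ τ => by
    refine ext_idx fun i hi => ?_
    simp only [Subgroup.coe_mul, Equiv.Perm.mul_apply, idx_m24Of (symCode_ok.1 _).1, Golay.idx_pt hi]
    exact symCode_ok.2.1 σ τ i hi

theorem symHom_rot : symHom (finRotate 3) = threeFix.pi := by
  rw [pi_eq_m24Of threeFix_ok]
  refine ext_idx fun i hi => ?_
  show Golay.idx ((m24Of (symCode (finRotate 3)) : Equiv.Perm GolayPt) (Golay.pt i)) = _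
  rw [idx_m24Of (symCode_ok.1 _).1, idx_m24Of (FixData.isAut_of_ok threeFix_ok), Golay.idx_pt hi]
  exact symCode_ok.2.2.2 i hi

theorem symHom_injective : Function.Injective symHom := by
  refine (injective_iff_map_eq_one _).2 fun σ h => by_contra fun hne => ?_
  obtain ⟨i, hi, hmove⟩ := List.any_eq_true.1 (symCode_ok.2.2.1 σ hne)
  have e : Golay.idx ((symHom σ : Equiv.Perm GolayPt) (Golay.pt i)) =
      Golay.fn (symCode σ) i := by
    show Golay.idx ((m24Of (symCode σ) : Equiv.Perm GolayPt) (Golay.pt i)) = _
    rw [idx_m24Of (symCode_ok.1 _).1, Golay.idx_pt (List.mem_range.1 hi)]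
  rw [h, OneMemClass.coe_one, Equiv.Perm.one_apply, Golay.idx_pt (List.mem_range.1 hi)] at e
  rw [← e] at hmove
  simp at hmove

/-- An element with an invariant matrix commutes with the permutation. -/
theorem el_comm_of_inv {A : MatData} {code d : ℕ} (h : A.good code = true) (hd : Golay.isAut d = true)
    (hi : invMat d A = true) : A.el * permHom (m24Of d) = permHom (m24Of d) * A.el := by
  simp only [invMat, List.all_eq_true, List.mem_range, beq_iff_eq] at hi
  have hinv : ∀ i j : GolayPt,
      A.M ((m24Of d : Equiv.Perm GolayPt) i) ((m24Of d : Equiv.Perm GolayPt) j) = A.M i j := by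
    intro i j
    show (A.L.getD (Golay.idx _) []).getD (Golay.idx _) 0 = _
    rw [idx_m24Of hd, idx_m24Of hd]
    exact hi _ (Golay.idx_lt i) _ (Golay.idx_lt j)
  refine eq_of_vec (c := 8) (by norm_num) fun v => ?_
  have hperm : ∀ (w : leechLattice) (i : GolayPt),
      ((permHom (m24Of d) • w : leechLattice) : GolayPt → ℤ) ((m24Of d : Equiv.Perm GolayPt) i) =
        (w : GolayPt → ℤ) i := by
    intro w i
    rw [MonsterLattice.permHom_apply, vec_mono, signedPerm, if_neg (Finset.notMem_empty _),
      Equiv.symm_apply_apply]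
  rw [mul_smul, mul_smul, ← MatData.smul_el (MatData.ok_of_good h)]
  funext j
  obtain ⟨i, rfl⟩ := (m24Of d : Equiv.Perm GolayPt).surjective j
  rw [Pi.smul_apply, hperm, ← Pi.smul_apply, ← MatData.smul_el (MatData.ok_of_good h)]
  simp only [Matrix.mulVec, dotProduct]
  rw [← Equiv.sum_comp (m24Of d : Equiv.Perm GolayPt)]
  exact Finset.sum_congr rfl fun k _ => by rw [hinv, hperm]

theorem threeX_getD {i : ℕ} (hi : i < 7) : threeX.getD i threeX0 ∈ threeX := by
  rw [List.getD_eq_getElem _ _ (show i < threeX.length from hi)]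
  exact List.getElem_mem _

/-- The alternating group of degree nine in the centraliser of the symmetric group. -/
theorem exists_nine : ∃ φ : alternatingGroup (Fin 9) →* Spor.Co1, Function.Injective φ ∧
    ∀ a σ, φ a * bar (permHom (symHom σ)) = bar (permHom (symHom σ)) * φ a := by
  have hok := threeFix_ok
  have hgood : ∀ i < 7, (threeX.getD i threeX0).good threeFix.code = true := fun i hi =>
    List.all_eq_true.1 threeX_good _ (threeX_getD hi)
  have hcube : ∀ i < 7, prodCheck 1 (threeX.getD i threeX0).L (threeX.getD i threeX0).T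
      (threeX.getD i threeX0).T eightI = true :=
    fun i hi => List.all_eq_true.1 threeX_cube _ (threeX_getD hi)
  have hpair : ∀ i < 7, ∀ j < 7, i < j → prodCheck (-1) (threeX.getD i threeX0).L (threeX.getD j threeX0).T
      (threeX.getD j threeX0).T (threeX.getD i threeX0).L = true := fun i hi j hj hij => by
    have := List.all_eq_true.1 (List.all_eq_true.1 threeX_pairs i (List.mem_range.2 hi)) j (List.mem_range.2 hj)
    simp only [Bool.or_eq_true, decide_eq_true_eq] at this
    exact this.resolve_left (by omega)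
  let ξ : Fin 7 → Spor.Co1 := fun i => bar (threeX.getD i threeX0).el
  have h3 : ∀ i, ξ i ^ 3 = 1 := fun i => by
    rw [← map_pow, MatData.cube_eq_one (hgood i i.2) toMat_eightI (hcube i i.2), map_one]
  have key : ∀ a b : Fin 7, a.val < b.val → (ξ a * ξ b) ^ 2 = 1 := by
    intro a b hab
    rw [← map_mul, ← map_pow, MatData.sq_mul_eq_negOne (hgood a a.2) (hgood b b.2) (hpair a a.2 b b.2 hab)]
    exact bar_eq_one.2 (Or.inr rfl)
  obtain ⟨φ, hφ, hr⟩ := exists_hom ξ h3 fun i j hij => by
    rcases Nat.lt_or_ge i.val j.val with hlt | hge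
    · exact key i j hlt
    · exact sq_mul_comm (key j i (lt_of_le_of_ne hge fun e => hij (Fin.ext e.symm)))
  let α : alternatingGroup (Fin 2 ⊕ Fin 7) ≃* alternatingGroup (Fin 9) := Equiv.altCongrHom finSumFinEquiv
  let ψ : alternatingGroup (Fin 9) →* Spor.Co1 := φ.comp α.symm.toMonoidHom
  refine ⟨ψ, ?_, fun a σ => ?_⟩
  · haveI : IsSimpleGroup (alternatingGroup (Fin 9)) := alternatingGroup.isSimpleGroup (by simp)
    rw [← MonoidHom.ker_eq_bot_iff]
    refine ψ.normal_ker.eq_bot_or_eq_top.resolve_right fun e => ?_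
    have h0 : ψ (α ⟨cyc (0 : Fin 7), cyc_mem_alternatingGroup 0⟩) = 1 :=
      MonoidHom.mem_ker.1 (e ▸ Subgroup.mem_top _)
    have h0' : bar threeX0.el = 1 := by
      have : φ (α.symm (α ⟨cyc (0 : Fin 7), cyc_mem_alternatingGroup 0⟩)) = 1 := h0
      rwa [α.symm_apply_apply, hφ] at this
    have hmove := moved_of_check hok (hgood 0 (by norm_num)) threeMoved_ok
    refine hmove ?_
    change Cg (threeX0.el • threeFix.basisV 0) (threeFix.basisV 0)
    rcases bar_eq_one.1 h0' with e | e <;> rw [e]
    · rw [one_smul]; exact cg_refl _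
    · rw [Leech.negOne_smul]; exact (Cg.neg _).symm
  · have hmem : ψ a ∈ Subgroup.closure (Set.range ξ) := hr ▸ ⟨_, rfl⟩
    have hle : Subgroup.closure (Set.range ξ) ≤ Subgroup.centralizer {bar (permHom (symHom σ))} := by
      rw [Subgroup.closure_le]
      rintro _ ⟨i, rfl⟩
      refine Subgroup.mem_centralizer_singleton_iff.2 ?_
      rw [← map_mul, ← map_mul]
      exact congrArg bar (el_comm_of_inv (hgood i i.2) (symCode_ok.1 σ).1
        (List.all_eq_true.1 (symCode_ok.1 σ).2 _ (threeX_getD i.2)))
    exact Subgroup.mem_centralizer_singleton_iff.1 (hle hmem)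

theorem finRotate_conj : ∀ τ : Equiv.Perm (Fin 3),
    τ * finRotate 3 * τ⁻¹ = finRotate 3 ∨ τ * finRotate 3 * τ⁻¹ = (finRotate 3)⁻¹ := by decide +kernel

/-- A subgroup of order three with normaliser the product of `S3` and `A9`. -/
theorem exists_three : ∃ W : Subgroup Spor.Co1, Nat.card W = 3 ∧
    Nonempty (↥(Subgroup.normalizer (W : Set Spor.Co1)) ≃* Equiv.Perm (Fin 3) × alternatingGroup (Fin 9)) := by
  haveI : Finite Co0 := finite_co0
  have hok := threeFix_ok
  haveI : Fact (Nat.Prime 3) := ⟨Nat.prime_three⟩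
  set x : Spor.Co1 := bar (permHom threeFix.pi) with hx
  set N : Subgroup Spor.Co1 := Subgroup.normalizer ((Subgroup.zpowers x : Subgroup Spor.Co1) : Set Spor.Co1)
    with hN
  have hox : orderOf x = 3 := FixData.orderOf_bar hok (show Nat.Prime threeFix.p from Nat.prime_three)
  have hW : Nat.card (Subgroup.zpowers x) = 3 := by rw [Nat.card_zpowers, hox]
  obtain ⟨φ, hφi, hφc⟩ := exists_nine
  let f : Equiv.Perm (Fin 3) →* Spor.Co1 := (bar.comp permHom).comp symHom
  have hfi : Function.Injective f := barPerm_injective.comp symHom_injective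
  have hfx : f (finRotate 3) = x := by
    show bar (permHom (symHom (finRotate 3))) = x
    rw [symHom_rot]
  let F : Equiv.Perm (Fin 3) × alternatingGroup (Fin 9) →* Spor.Co1 :=
    MonoidHom.noncommCoprod f φ fun σ a => (hφc a σ).symm
  have hFi : Function.Injective F := by
    refine (injective_iff_map_eq_one _).2 fun ⟨σ, a⟩ h => ?_
    have h' : f σ * φ a = 1 := h
    have ha : a ∈ Subgroup.center (alternatingGroup (Fin 9)) := by
      refine Subgroup.mem_center_iff.2 fun b => hφi ?_
      have e : φ a = (f σ)⁻¹ := eq_inv_of_mul_eq_one_right h'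
      rw [map_mul, map_mul, e]
      exact (show Commute (φ b) (f σ) from hφc b σ).inv_right.eq
    rw [alternatingGroup.center_eq_bot (by simp), Subgroup.mem_bot] at ha
    subst ha
    rw [map_one, mul_one] at h'
    rw [hfi (h'.trans (map_one f).symm)]
    rfl
  have hFN : ∀ p, F p ∈ N := by
    rintro ⟨σ, a⟩
    refine N.mul_mem ?_ ?_
    · refine Subgroup.mem_normalizer_iff_map_conj_eq.2 ?_
      rw [MonoidHom.map_zpowers]
      show Subgroup.zpowers (f σ * x * (f σ)⁻¹) = _
      rw [← hfx, ← map_inv, ← map_mul, ← map_mul]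
      rcases finRotate_conj σ with e | e <;> rw [e]
      rw [map_inv, Subgroup.zpowers_inv]
    · refine Subgroup.centralizer_le_normalizer _ (Subgroup.mem_centralizer_iff.2 ?_)
      rintro _ ⟨n, rfl⟩
      rw [← hfx]
      exact ((show Commute (φ a) (f (finRotate 3)) from hφc a _).zpow_right n).eq.symm
  refine ⟨Subgroup.zpowers x, hW, ⟨(MulEquiv.ofBijective (F.codRestrict N hFN) ?_).symm⟩⟩
  have hinj : Function.Injective (F.codRestrict N hFN) := fun p q e => hFi (congrArg Subtype.val e)
  refine hinj.bijective_of_nat_card_le ?_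
  -- the index of the centraliser in the normaliser is at most two
  have hC : Subgroup.centralizer ((Subgroup.zpowers x : Subgroup Spor.Co1) : Set Spor.Co1) = threeFix.cen1 := by
    rw [Subgroup.zpowers_eq_closure, Subgroup.centralizer_closure]
    rfl
  let κ : N →* MulAut (Subgroup.zpowers x) := Subgroup.normalizerMonoidHom _
  have hker : Nat.card κ.ker ≤ 544320 := by
    have h2 := FixData.two_mul_natCard_cen1 hok
    have hb := three_bound
    refine le_trans (Nat.card_le_card_of_injective (β := threeFix.cen1)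
      (fun k => ⟨(k.1 : Spor.Co1), ?_⟩) fun a b e => ?_) (by omega)
    · rw [← hC]
      exact Subgroup.mem_subgroupOf.1
        ((SetLike.ext_iff.1 (Subgroup.normalizerMonoidHom_ker (Subgroup.zpowers x)) k.1).1 k.2)
    · exact Subtype.ext (Subtype.ext (congrArg (fun c : threeFix.cen1 => (c : Spor.Co1)) e))
  have haut : Nat.card (MulAut (Subgroup.zpowers x)) = 2 := by
    rw [IsCyclic.card_mulAut, hW]
    rfl
  have hr : Nat.card κ.range ≤ 2 := haut ▸ Subgroup.card_le_card_group κ.range
  have hcount := κ.ker.index_mul_card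
  rw [Subgroup.index_ker] at hcount
  rw [Nat.card_prod, Nat.card_perm, Nat.card_fin, nat_card_alternatingGroup, Nat.card_fin, ← hcount]
  calc Nat.card κ.range * Nat.card κ.ker ≤ 2 * 544320 := Nat.mul_le_mul hr hker
    _ = _ := by decide

end Cfsg.Agent.CoOneLocal
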