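/-
Elements of Co1 given by integral matrices, in the representation on the lattice modulo two.

* `el1` : the element;  `mat_el1` : its rows;  `mono_rel` : the entries of a monomially conjugated matrix
-/
import Cfsg.Agent.Lib.CoOneUniq.Rep
import Cfsg.Agent.Lib.MonsterLocal.MatRel

set_option autoImplicit false
set_option maxRecDepth 100000
open scoped Matrix

namespace Cfsg.Agent.CoOneLocal

open Cfsg Leech MonsterLocal CoOneUniq
open Cfsg.Agent.Golay (idx pt fn)

/-- The checks on a matrix. -/
def okM (A : MatData) : Bool := matOKB A.L A.T A.P A.Q A.YL A.YT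

/-- The element of Co1. -/
noncomputable def el1 (A : MatData) : Spor.Co1 := QuotientGroup.mk A.el

/-- Its rows. -/
def matRows (A : MatData) : List ℕ :=
  (List.range 24).map fun c => clL ((A.L.map fun r => dotL r (basL.getD c [])).map (· / 8))

theorem basL_len : ∀ c < 24, (basL.getD c []).length = 24 := by decide +kernel

theorem mat_el1 {A : MatData} (h : okM A = true) : mat (el1 A) = matRows A := by
  rw [el1, mat_mk, mat0, matRows]
  refine List.map_congr_left fun c hc => ?_
  rw [dif_pos (List.mem_range.1 hc)]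
  refine (clL_eq fun k hk => ?_).symm
  have e := congrFun (MatData.smul_el h ⟨basV c, basV_mem (List.mem_range.1 hc)⟩) (pt k)
  have e' : (A.M *ᵥ basV c) (pt k) = (A.L.map fun r => dotL r (basL.getD c [])).getD k 0 := by
    rw [show A.M = toMat A.L from rfl, basV, toMat_mulVec A.L (basL_len c (List.mem_range.1 hc))]
    show List.getD _ (idx (pt k)) 0 = _
    rw [Golay.idx_pt hk]
  rw [e', Pi.smul_apply, smul_eq_mul] at e
  have hl : A.L.length = 24 := (matOK_of_lists h).2.2.1
  rw [List.getD_eq_getElem _ _ (by simpa using hl ▸ hk), List.getElem_map] at e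
  rw [List.getD_eq_getElem _ _ (by simpa using hl ▸ hk), List.getElem_map, List.getElem_map, e,
    Int.mul_ediv_cancel_left _ (by norm_num)]

/-- An entry. -/
def ent (A : MatData) (i j : ℕ) : ℤ := (A.L.getD i []).getD j 0

theorem M_apply (A : MatData) (i j : GolayPt) : A.M i j = ent A (idx i) (idx j) := rfl

/-- The entries of a monomially conjugated matrix. -/
theorem mono_rel {A B : MatData} (hA : okM A = true) (hB : okM B = true) {σ : ↥M24} {c : CodeSet}
    (e : nmono σ c * el1 A = el1 B * nmono σ c) :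
    ∃ ε : ℤ, (ε = 1 ∨ ε = -1) ∧ ∀ i j : GolayPt,
      (if σ.1 i ∈ c.1 then -A.M i j else A.M i j) =
        ε * (if σ.1 j ∈ c.1 then -B.M (σ.1 i) (σ.1 j) else B.M (σ.1 i) (σ.1 j)) := by
  rw [nmono, el1, el1, ← QuotientGroup.mk_mul, ← QuotientGroup.mk_mul] at e
  have h1 : (QuotientGroup.mk ((mono0 σ c * A.el) * (B.el * mono0 σ c)⁻¹) : Spor.Co1) = 1 := by
    rw [QuotientGroup.mk_mul, QuotientGroup.mk_inv, e, mul_inv_cancel]
  have key : ∀ i j : GolayPt,
      ((((mono0 σ c * A.el) • eightVec j : leechLattice)) : GolayPt → ℤ) (σ.1 i) =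
        (if σ.1 i ∈ c.1 then -A.M i j else A.M i j) ∧
      ((((B.el * mono0 σ c) • eightVec j : leechLattice)) : GolayPt → ℤ) (σ.1 i) =
        (if σ.1 j ∈ c.1 then -B.M (σ.1 i) (σ.1 j) else B.M (σ.1 i) (σ.1 j)) := by
    intro i j
    have col : ∀ (C : MatData), okM C = true → ∀ a b : GolayPt,
        ((C.el • eightVec b : leechLattice) : GolayPt → ℤ) a = C.M a b := by
      intro C hC a b
      have e := congrFun (MatData.smul_el hC (eightVec b)) a
      rw [coe_eightVec, Matrix.mulVec_single, Pi.smul_apply] at e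
      simp only [MulOpposite.smul_eq_mul_unop, MulOpposite.unop_op, Pi.smul_apply, Matrix.col_apply, smul_eq_mul] at e
      omega
    constructor
    · rw [mul_smul, mono0, vec_mono]
      simp only [signedPerm, Equiv.symm_apply_apply, col A hA]
    · have e2 : mono0 σ c • eightVec j = eightVec (σ.1 j) ∧ σ.1 j ∉ c.1 ∨
          mono0 σ c • eightVec j = -eightVec (σ.1 j) ∧ σ.1 j ∈ c.1 := by
        by_cases h : σ.1 j ∈ c.1
        · refine Or.inr ⟨Subtype.ext ?_, h⟩
          rw [mono0, vec_mono, coe_eightVec, signedPerm_single, AddSubgroup.coe_neg, coe_eightVec,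
            if_pos h, ← Pi.single_neg]
        · refine Or.inl ⟨Subtype.ext ?_, h⟩
          rw [mono0, vec_mono, coe_eightVec, signedPerm_single, coe_eightVec, if_neg h]
      rcases e2 with ⟨e3, h⟩ | ⟨e3, h⟩ <;> rw [mul_smul, e3]
      · rw [col B hB, if_neg h]
      · rw [smul_vneg, AddSubgroup.coe_neg, Pi.neg_apply, col B hB, if_pos h]
  rcases Co1Centralizer.mk_eq_one_iff.1 h1 with h | h
  · refine ⟨1, Or.inl rfl, fun i j => ?_⟩
    rw [← (key i j).1, ← (key i j).2, mul_inv_eq_one.1 h, one_mul]
  · refine ⟨-1, Or.inr rfl, fun i j => ?_⟩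
    rw [← (key i j).1, ← (key i j).2, mul_inv_eq_iff_eq_mul.1 h, mul_smul negOne, vec_negOne,
      Pi.neg_apply, neg_one_mul]

theorem natAbs_rel {A B : MatData} (hA : okM A = true) (hB : okM B = true) {σ : ↥M24} {c : CodeSet}
    (e : nmono σ c * el1 A = el1 B * nmono σ c) (i j : GolayPt) :
    (B.M (σ.1 i) (σ.1 j)).natAbs = (A.M i j).natAbs := by
  obtain ⟨ε, hε, h⟩ := mono_rel hA hB e
  have := h i j
  rcases hε with rfl | rfl <;> split_ifs at this <;> omega

end Cfsg.Agent.CoOneLocal
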