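/-
The centralizer in Co1 of an element of order seven and an involution has order at most 168.

* `natCard_cxt_le`
-/
import Cfsg.Agent.Lib.CoOneLocal.SevenMat
import Cfsg.Agent.Lib.CoOneLocal.SevenData
import Cfsg.Agent.Lib.CoOneA.Normal

set_option autoImplicit false
set_option maxRecDepth 100000
open scoped Pointwise

namespace Cfsg.Agent.CoOneLocal

open Cfsg Leech MonsterLocal CoOneUniq
open Cfsg.Agent.Golay (idx pt fn encAux isCode pts rows)

/-- The element of order seven. -/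
noncomputable abbrev x7 : Spor.Co1 := el1 sevenX

/-- The involution. -/
noncomputable abbrev t7 : Spor.Co1 := (CoOneUniq.el sevenT : Spor.Co1)

/-- Their centralizer. -/
noncomputable abbrev cxt : Subgroup Spor.Co1 :=
  Subgroup.centralizer {x7} ⊓ Subgroup.centralizer {t7}

theorem mem_cxt {g : Spor.Co1} : g ∈ cxt ↔ g * x7 = x7 * g ∧ g * t7 = t7 * g := by
  simp only [cxt, Subgroup.mem_inf, Subgroup.mem_centralizer_singleton_iff]

/-- The rows of the involution. -/
def tRows : List ℕ := monoRows sevenTinv sevenT.1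

theorem ok_all : okM sevenX = true ∧ okM sevenB = true ∧ okM sevenG = true ∧ okM sevenC0 = true ∧
    okM sevenC1 = true ∧ isV sevenT = true ∧ isInv sevenT.2 sevenTinv = true := by
  decide +kernel

theorem mat_t7 : mat t7 = tRows := mat_el (V_of_isV ok_all.2.2.2.2.2.1) ok_all.2.2.2.2.2.2

theorem rels_ok :
    mmul (matRows sevenG) (matRows sevenB) = mmul (matRows sevenX) (matRows sevenG) ∧
    mmul (matRows sevenC0) (matRows sevenX) = mmul (matRows sevenX) (matRows sevenC0) ∧
    mmul (matRows sevenC0) tRows = mmul tRows (matRows sevenC0) ∧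
    mmul (matRows sevenC1) (matRows sevenX) = mmul (matRows sevenX) (matRows sevenC1) ∧
    mmul (matRows sevenC1) tRows = mmul tRows (matRows sevenC1) := by
  decide +kernel

theorem conj_B : el1 sevenG * el1 sevenB = x7 * el1 sevenG := by
  refine mat_inj ?_
  obtain ⟨hX, hB, hG, -⟩ := ok_all
  rw [mat_mul, mat_mul, mat_el1 hG, mat_el1 hB, mat_el1 hX, rels_ok.1]

theorem gens_mem : el1 sevenC0 ∈ cxt ∧ el1 sevenC1 ∈ cxt := by
  obtain ⟨hX, -, -, h0, h1, -⟩ := ok_all
  obtain ⟨-, r1, r2, r3, r4⟩ := rels_ok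
  have eX := mat_el1 hX
  have e0 := mat_el1 h0
  have e1 := mat_el1 h1
  refine ⟨mem_cxt.2 ⟨mat_inj ?_, mat_inj ?_⟩, mem_cxt.2 ⟨mat_inj ?_, mat_inj ?_⟩⟩
  · rw [mat_mul, mat_mul, e0, eX, r1]
  · rw [mat_mul, mat_mul, e0, mat_t7, r2]
  · rw [mat_mul, mat_mul, e1, eX, r3]
  · rw [mat_mul, mat_mul, e1, mat_t7, r4]

/-! ### The candidate classes -/

/-- The first condition. -/
def condT (v : ℕ) : ℕ := encAux tRows v ^^^ v

/-- The second condition. -/
def condP (v : ℕ) : ℕ :=
  encAux (matRows sevenX) (encAux (matRows sevenX) (encAux (matRows sevenX) v)) ^^^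
    encAux (matRows sevenX) v ^^^ v

theorem decomp_units : ∀ i < 24, encAux candBasis (encAux candCoord (2 ^ i)) ^^^
    encAux decT (condT (2 ^ i)) ^^^ encAux decP (condP (2 ^ i)) = 2 ^ i := by decide +kernel

theorem decomp {v : ℕ} (hv : v < 2 ^ 24) : encAux candBasis (encAux candCoord v) ^^^
    encAux decT (condT v) ^^^ encAux decP (condP v) = v := by
  refine CoOneA.forall_of_basis (Pr := fun v => encAux candBasis (encAux candCoord v) ^^^
    encAux decT (condT v) ^^^ encAux decP (condP v) = v) ?_ (fun a b ha hb => ?_) 24 decomp_units v hv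
  · simp [condT, condP, Golay.encAux_zero]
  · have h1 : condT (a ^^^ b) = condT a ^^^ condT b := by
      simp only [condT, Golay.encAux_xor]
      ac_rfl
    have h2 : condP (a ^^^ b) = condP a ^^^ condP b := by
      simp only [condP, Golay.encAux_xor]
      ac_rfl
    simp only [h1, h2, Golay.encAux_xor] at *
    conv_rhs => rw [← ha, ← hb]
    ac_rfl

theorem cand_ok : (∀ c ∈ candCoord, c < 2 ^ 6) ∧
    (∀ m < 64, m ≠ 0 → (orbS.contains (encAux candBasis m) ||
      (orbL.map Prod.fst).contains (encAux candBasis m)) = true) ∧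
    encAux candBasis 0 = 0 ∧ condT F0 = 0 ∧ condP F0 = 0 ∧
    encAux (matRows sevenG) F0 = (orbL.getD 0 (0, 0, 0)).1 ∧
    (∀ k < 42, k ≠ 0 → (orbL.getD k (0, 0, 0)).2.1 < k ∧
      encAux (bif (orbL.getD k (0, 0, 0)).2.2 == 0 then matRows sevenC0 else matRows sevenC1)
        (orbL.getD k (0, 0, 0)).1 = (orbL.getD (orbL.getD k (0, 0, 0)).2.1 (0, 0, 0)).1) ∧
    orbL.length = 42 ∧ orbS.length = 21 ∧
    (∀ i < 24, ent sevenX i i ≠ 0) ∧ (∃ j < 24, ent sevenB j j = 0) := by
  decide +kernel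

theorem fr_fixed {g : Spor.Co1} (hg : g ∈ cxt) : condT (fr g) = 0 ∧ condP (fr g) = 0 := by
  obtain ⟨hx, ht⟩ := mem_cxt.1 hg
  obtain ⟨-, -, -, h1, h2, -⟩ := cand_ok
  have push : ∀ {y : Spor.Co1}, g * y = y * g → encAux (mat y) (fr g) = encAux (mat g) (fr y) := by
    intro y h
    rw [← fr_mul, ← fr_mul, h]
  constructor
  · rw [condT, ← mat_t7, push ht]
    have e : fr t7 = F0 := by
      rw [condT, Nat.xor_eq_zero_iff, ← mat_t7] at h1
      exact h1
    rw [e]
    exact Nat.xor_self _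
  · have h3 : encAux (mat x7) (encAux (mat x7) (fr x7)) = fr (x7 * (x7 * x7)) := by
      rw [fr_mul, fr_mul]
    rw [condP, ← mat_el1 ok_all.1, ← fr_mul, ← fr_mul, ← fr_mul]
    rw [condP, ← mat_el1 ok_all.1] at h2
    change encAux (mat x7) (encAux (mat x7) (fr x7)) ^^^ fr x7 ^^^ F0 = 0 at h2
    rw [h3] at h2
    have e3 : x7 * (x7 * (x7 * g)) = g * (x7 * (x7 * x7)) := by
      rw [← hx, ← mul_assoc x7 g x7, ← hx, mul_assoc g x7 x7, ← mul_assoc x7 g (x7 * x7), ← hx, mul_assoc]
    rw [e3, ← hx, fr_mul g, fr_mul g x7]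
    have h4 := congrArg (encAux (mat g)) h2
    rw [Golay.encAux_xor, Golay.encAux_xor, Golay.encAux_zero] at h4
    exact h4

theorem fr_ne_zero (g : Spor.Co1) : fr g ≠ 0 := by
  intro h
  have e := fr_mul g⁻¹ g
  rw [h, Golay.encAux_zero, inv_mul_cancel, fr, mat_one] at e
  revert e
  decide +kernel

theorem fr_lt (g : Spor.Co1) : fr g < 2 ^ 24 := by
  obtain ⟨g, rfl⟩ := QuotientGroup.mk_surjective g
  rw [fr, mat_mk, ← clv_eight, ← app_mat0]
  exact clv_lt _

theorem not_large : ∀ k < 42, ∀ g ∈ cxt, fr g ≠ (orbL.getD k (0, 0, 0)).1 := by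
  obtain ⟨-, -, -, -, -, h0, hk, -, -, hXd, j, hj, hBj⟩ := cand_ok
  obtain ⟨hX, hB, hG, hC0, hC1, -⟩ := ok_all
  intro k
  induction k using Nat.strong_induction_on with
  | _ k ih =>
    intro hk' g hg e
    obtain ⟨hx, ht⟩ := mem_cxt.1 hg
    by_cases h : k = 0
    · subst h
      rw [← h0, ← mat_el1 hG] at e
      have hn : (el1 sevenG)⁻¹ * g ∈ CoOneUniq.N0 := fr_eq_iff.1 e.symm
      obtain ⟨σ, c, hσ⟩ := CoOneUniq.mem_N0.1 hn
      have hrel : nmono σ c * el1 sevenX = el1 sevenB * nmono σ c := by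
        rw [← hσ]
        calc (el1 sevenG)⁻¹ * g * el1 sevenX = (el1 sevenG)⁻¹ * (g * x7) := mul_assoc _ _ _
          _ = (el1 sevenG)⁻¹ * (x7 * el1 sevenG) * ((el1 sevenG)⁻¹ * g) := by rw [hx]; group
          _ = _ := by rw [← conj_B]; group
      have h1 := natAbs_rel hX hB hrel (σ.1⁻¹ (pt j)) (σ.1⁻¹ (pt j))
      rw [show σ.1 (σ.1⁻¹ (pt j)) = pt j from Equiv.apply_symm_apply _ _, M_apply, M_apply,
        Golay.idx_pt hj, hBj] at h1
      exact hXd _ (Golay.idx_lt _) (Int.natAbs_eq_zero.1 (by simpa using h1.symm))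
    · obtain ⟨h1, h2⟩ := hk k hk' h
      cases hb : (orbL.getD k (0, 0, 0)).2.2 == 0
      · rw [hb, cond_false, ← mat_el1 hC1, ← e, ← fr_mul] at h2
        exact ih _ h1 (h1.trans hk') _ (mul_mem gens_mem.2 hg) h2
      · rw [hb, cond_true, ← mat_el1 hC0, ← e, ← fr_mul] at h2
        exact ih _ h1 (h1.trans hk') _ (mul_mem gens_mem.1 hg) h2

theorem fr_mem_orbS {g : Spor.Co1} (hg : g ∈ cxt) : fr g ∈ orbS := by
  obtain ⟨hC, hm, h0, -, -, -, -, hlen, -⟩ := cand_ok
  obtain ⟨e1, e2⟩ := fr_fixed hg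
  have h := decomp (fr_lt g)
  rw [e1, e2, Golay.encAux_zero, Golay.encAux_zero, Nat.xor_zero, Nat.xor_zero] at h
  have hlt : encAux candCoord (fr g) < 64 := Golay.encAux_lt candCoord 6 hC _
  have hne : encAux candCoord (fr g) ≠ 0 := fun e => fr_ne_zero g (by rw [← h, e, h0])
  have := hm _ hlt hne
  rw [h, Bool.or_eq_true, List.contains_iff_mem, List.contains_iff_mem] at this
  rcases this with h' | h'
  · exact h'
  · obtain ⟨k, hk, e⟩ := List.mem_iff_getElem.1 h'
    rw [List.length_map, hlen] at hk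
    refine absurd ?_ (not_large k hk g hg)
    rw [List.getElem_map] at e
    rw [List.getD_eq_getElem _ _ (hlen ▸ hk), e]

/-! ### The monomial part -/

/-- Whether a further assignment is compatible. -/
def okStep (m : List (ℕ × ℕ)) (i j : ℕ) : Bool :=
  (ent sevenX j j).natAbs == (ent sevenX i i).natAbs &&
    m.all fun p => p.2 != j && (p.1 != fn sevenT.2 i || fn sevenT.2 j == p.2) &&
      (ent sevenX j p.2).natAbs == (ent sevenX i p.1).natAbs &&
      (ent sevenX p.2 j).natAbs == (ent sevenX p.1 i).natAbs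

/-- The compatible assignments along a list of points. -/
def ext : List ℕ → List (ℕ × ℕ) → List (List (ℕ × ℕ))
  | [], m => [m]
  | i :: rest, m => (List.range 24).flatMap fun j => bif okStep m i j then ext rest ((i, j) :: m) else []

/-- The graph of a map along a list. -/
def graph (f : ℕ → ℕ) : List ℕ → List (ℕ × ℕ) → List (ℕ × ℕ)
  | [], m => m
  | i :: rest, m => graph f rest ((i, f i) :: m)

/-- The image of a mask under an assignment. -/
def imgOf (m : List (ℕ × ℕ)) (r : ℕ) : ℕ :=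
  m.foldr (fun p a => (bif r.testBit p.1 then 2 ^ p.2 else 0) ||| a) 0

/-- The assignments preserving the code. -/
def autos : List (List (ℕ × ℕ)) :=
  (ext autoOrder []).filter fun m => rows.all fun r => isCode (imgOf m r)

theorem testBit_imgOf (r b : ℕ) : ∀ m : List (ℕ × ℕ),
    (imgOf m r).testBit b = true ↔ ∃ p ∈ m, p.2 = b ∧ r.testBit p.1 = true
  | [] => by simp [imgOf]
  | p :: m => by
    show (((bif r.testBit p.1 then 2 ^ p.2 else 0) ||| imgOf m r)).testBit b = true ↔ _
    rw [Nat.testBit_or, Bool.or_eq_true, testBit_imgOf r b m]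
    cases h : r.testBit p.1 <;> simp [h, Nat.testBit_two_pow]

theorem mem_graph (f : ℕ → ℕ) : ∀ (l : List ℕ) (m : List (ℕ × ℕ)) (p : ℕ × ℕ),
    p ∈ graph f l m ↔ (∃ i ∈ l, p = (i, f i)) ∨ p ∈ m
  | [], m, p => by simp [graph]
  | i :: l, m, p => by
    rw [graph, mem_graph f l]
    simp only [List.mem_cons]
    constructor
    · rintro (⟨a, ha, rfl⟩ | rfl | h)
      exacts [Or.inl ⟨a, Or.inr ha, rfl⟩, Or.inl ⟨i, Or.inl rfl, rfl⟩, Or.inr h]
    · rintro (⟨a, rfl | ha, rfl⟩ | h)
      exacts [Or.inr (Or.inl rfl), Or.inl ⟨a, ha, rfl⟩, Or.inr (Or.inr h)]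

theorem graph_mem_ext {f : ℕ → ℕ} (hlt : ∀ i, f i < 24) (hinj : ∀ i < 24, ∀ k < 24, f i = f k → i = k)
    (hent : ∀ i < 24, ∀ k < 24, (ent sevenX (f i) (f k)).natAbs = (ent sevenX i k).natAbs)
    (ht : ∀ i < 24, fn sevenT.2 (f i) = f (fn sevenT.2 i)) :
    ∀ (l : List ℕ) (m : List (ℕ × ℕ)), l.Nodup → (∀ i ∈ l, i < 24) →
      (∀ p ∈ m, p.1 < 24 ∧ p.2 = f p.1 ∧ p.1 ∉ l) → graph f l m ∈ ext l m
  | [], m, _, _, _ => by simp [graph, ext]
  | i :: l, m, hnd, hl, hm => by
    rw [List.nodup_cons] at hnd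
    have hi := hl i List.mem_cons_self
    rw [graph, ext, List.mem_flatMap]
    refine ⟨f i, List.mem_range.2 (hlt i), ?_⟩
    have hok : okStep m i (f i) = true := by
      simp only [okStep, Bool.and_eq_true, beq_iff_eq, List.all_eq_true, bne_iff_ne, ne_eq, Bool.or_eq_true]
      refine ⟨hent i hi i hi, fun p hp => ?_⟩
      obtain ⟨h1, h2, h3⟩ := hm p hp
      refine ⟨⟨⟨fun e => h3 ?_, ?_⟩, h2 ▸ hent i hi p.1 h1⟩, h2 ▸ hent p.1 h1 i hi⟩
      · rw [hinj p.1 h1 i hi (h2.symm.trans e)]; exact List.mem_cons_self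
      · by_cases h : p.1 = fn sevenT.2 i
        · exact Or.inr (by rw [h2, h, ht i hi])
        · exact Or.inl h
    rw [hok, cond_true]
    refine graph_mem_ext hlt hinj hent ht l _ hnd.2 (fun k hk => hl k (List.mem_cons_of_mem _ hk))
      fun p hp => ?_
    rcases List.mem_cons.1 hp with rfl | hp
    · exact ⟨hi, rfl, hnd.1⟩
    · obtain ⟨h1, h2, h3⟩ := hm p hp
      exact ⟨h1, h2, fun h => h3 (List.mem_cons_of_mem _ h)⟩

/-- A spanning tree of the support of the matrix. -/
def treeX : List (ℕ × ℕ) :=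
  [(23, 0), (23, 2), (23, 4), (23, 9), (23, 11), (23, 16), (23, 17), (23, 19), (23, 22), (0, 7), (0, 8), (2, 5), (2, 21), (9, 3), (9, 12), (11, 1), (11, 13), (16, 6), (16, 20), (17, 10), (17, 14), (19, 15), (19, 18)]

theorem autos_ok : autos.length = 8 ∧ autoOrder.Nodup ∧ (∀ i ∈ autoOrder, i < 24) ∧
    (∀ i < 24, i ∈ autoOrder) ∧
    (∀ i < 24, fn sevenT.2 i < 24) ∧
    (∀ p ∈ treeX, p.1 < 24 ∧ p.2 < 24 ∧ ent sevenX p.1 p.2 ≠ 0) ∧
    (∀ i < 24, i = 23 ∨ i ∈ treeX.map Prod.snd) ∧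
    (∀ p ∈ treeX, p.1 = 23 ∨ p.1 ∈ (treeX.takeWhile (fun q => q != p)).map Prod.snd) := by
  decide +kernel

/-- The assignment of a permutation. -/
noncomputable def code7 (σ : ↥M24) : List (ℕ × ℕ) := graph (fun i => idx (σ.1 (pt i))) autoOrder []

theorem code7_mem {σ : ↥M24} {c : CodeSet} (h : nmono σ c ∈ cxt) : code7 σ ∈ autos := by
  obtain ⟨hx, ht⟩ := mem_cxt.1 h
  obtain ⟨-, hnd, hlt, hall, htlt, -⟩ := autos_ok
  obtain ⟨hX, -, -, -, -, hV, -⟩ := ok_all
  have hV' := V_of_isV hV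
  set f := fun i => idx (σ.1 (pt i)) with hf
  have hcomm : σ.1 * Golay.toPerm sevenT.2 = Golay.toPerm sevenT.2 * σ.1 := by
    have e : (CoOneUniq.el sevenT : Spor.Co1) = nmono ⟨Golay.toPerm sevenT.2, hV'.2.2.2⟩
        ⟨pts sevenT.1, hV'.2.1⟩ := by
      rw [el_coe, el0_eq hV']; rfl
    rw [show t7 = (CoOneUniq.el sevenT : Spor.Co1) from rfl, e, nmono_mul, nmono_mul] at ht
    exact congrArg Subtype.val (nmono_eq_iff.1 ht).1
  rw [autos, List.mem_filter]
  refine ⟨graph_mem_ext (fun i => Golay.idx_lt _) (fun i hi k hk e => ?_) (fun i hi k hk => ?_)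
    (fun i hi => ?_) autoOrder [] hnd hlt (by simp), ?_⟩
  · have := σ.1.injective (Golay.idx_injective e)
    rw [← Golay.idx_pt hi, this, Golay.idx_pt hk]
  · have := natAbs_rel hX hX hx (pt i) (pt k)
    simp only [M_apply, Golay.idx_pt hi, Golay.idx_pt hk] at this
    exact this
  · show fn sevenT.2 (idx (σ.1 (pt i))) = idx (σ.1 (pt (fn sevenT.2 i)))
    rw [← Golay.idx_toPerm hV'.2.2.1, ← Golay.toPerm_pt hV'.2.2.1 hi, ← Equiv.Perm.mul_apply, ← hcomm,
      Equiv.Perm.mul_apply]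
  · refine List.all_eq_true.2 fun r hr => ?_
    have hc : isCode r = true := by
      revert r; decide +kernel
    have hlt' : imgOf (graph f autoOrder []) r < 2 ^ 24 := by
      refine Nat.lt_pow_two_of_testBit _ fun b hb => Bool.eq_false_iff.2 fun hbit => ?_
      obtain ⟨p, hp, hpb, -⟩ := (testBit_imgOf r b _).1 hbit
      rcases (mem_graph f _ _ p).1 hp with ⟨i, -, rfl⟩ | hp'
      · have := Golay.idx_lt (σ.1 (pt i))
        simp only [hf] at hpb
        omega
      · simp at hp'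
    have himg : pts (imgOf (graph f autoOrder []) r) = σ.1 • pts r := by
      ext p
      rw [← Finset.inv_smul_mem_iff, Equiv.Perm.smul_def, Equiv.Perm.coe_inv, Golay.mem_pts, Golay.mem_pts,
        testBit_imgOf]
      constructor
      · rintro ⟨q, hq, e1, e2⟩
        rcases (mem_graph f _ _ q).1 hq with ⟨i, hi, rfl⟩ | hq'
        · simp only [hf] at e1
          rw [← Golay.idx_injective e1, Equiv.symm_apply_apply, Golay.idx_pt (hlt i hi)]
          exact e2
        · simp at hq'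
      · intro e
        refine ⟨(idx (σ.1.symm p), f (idx (σ.1.symm p))),
          (mem_graph f _ _ _).2 (Or.inl ⟨_, hall _ (Golay.idx_lt _), rfl⟩), ?_, e⟩
        simp only [hf, Golay.pt_idx, Equiv.apply_symm_apply]
    show isCode (imgOf (graph f autoOrder []) r) = true
    rw [← Golay.pts_mem_supports_iff hlt', himg]
    exact Golay.smul_mem_supports σ.2 ((Golay.pts_mem_supports_iff (Golay.lt_of_isCode hc)).2 hc)

theorem sign_trivial {c : CodeSet} (h : nmono 1 c ∈ cxt) : nmono 1 c = 1 := by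
  obtain ⟨hx, -⟩ := mem_cxt.1 h
  obtain ⟨-, -, -, -, -, hT, hcov, hpre⟩ := autos_ok
  have hX := ok_all.1
  obtain ⟨ε, hε, hrel⟩ := mono_rel hX hX hx
  simp only [OneMemClass.coe_one, Equiv.Perm.one_apply] at hrel
  have hε1 : ε = 1 := by
    rcases hε with rfl | rfl
    · rfl
    · exfalso
      have h1 := hrel (pt 23) (pt 23)
      have h2 := cand_ok.2.2.2.2.2.2.2.2.2.1 23 (by norm_num)
      rw [M_apply, Golay.idx_pt (by norm_num)] at h1
      split_ifs at h1 <;> omega
  subst hε1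
  have hedge : ∀ p ∈ treeX, (pt p.1 ∈ c.1 ↔ pt p.2 ∈ c.1) := by
    intro p hp
    obtain ⟨h1, h2, h3⟩ := hT p hp
    have := hrel (pt p.1) (pt p.2)
    rw [M_apply, Golay.idx_pt h1, Golay.idx_pt h2, one_mul] at this
    by_cases ha : pt p.1 ∈ c.1 <;> by_cases hb : pt p.2 ∈ c.1 <;>
      simp only [ha, hb, if_true, if_false] at this ⊢ <;> first | omega | exact Iff.rfl
  have hall : ∀ k, ∀ p ∈ treeX.take k, (pt 23 ∈ c.1 ↔ pt p.2 ∈ c.1) := by
    intro k
    induction k with
    | zero => simp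
    | succ k ih =>
      intro p hp
      by_cases hk : k < treeX.length
      · rw [List.take_succ_eq_append_getElem hk, List.mem_append, List.mem_singleton] at hp
        rcases hp with hp | rfl
        · exact ih p hp
        · refine Iff.trans ?_ (hedge _ (List.getElem_mem hk))
          rcases hpre _ (List.getElem_mem hk) with e | e
          · rw [e]
          · obtain ⟨q, hq, e⟩ := List.mem_map.1 e
            rw [← e]
            refine ih q ?_
            obtain ⟨n, hn, e'⟩ := List.mem_iff_getElem.1 hq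
            have hpre' : (treeX.takeWhile fun q => q != treeX[k]) <+: treeX := List.takeWhile_prefix _
            have hn' : n < k := by
              by_contra hge
              have hk' : k < (treeX.takeWhile fun q => q != treeX[k]).length := by omega
              have h5 := List.mem_takeWhile_imp (List.getElem_mem hk')
              rw [hpre'.getElem hk'] at h5
              simp at h5
            rw [List.mem_take_iff_getElem]
            exact ⟨n, by omega, by rw [← e']; exact (hpre'.getElem hn).symm⟩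
      · rw [List.take_of_length_le (by omega)] at hp
        exact ih p (by rw [List.take_of_length_le (by omega)]; exact hp)
  have hconst : ∀ p : GolayPt, (pt 23 ∈ c.1 ↔ p ∈ c.1) := by
    intro p
    rcases hcov _ (Golay.idx_lt p) with e | e
    · rw [show pt 23 = p from (congrArg pt e).symm.trans (Golay.pt_idx p)]
    · obtain ⟨q, hq, e'⟩ := List.mem_map.1 e
      have := hall treeX.length q (by rw [List.take_length]; exact hq)
      rwa [e', Golay.pt_idx] at this
  rw [← nmono_one, nmono_eq_iff]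
  refine ⟨rfl, ?_⟩
  by_cases h23 : pt 23 ∈ c.1
  · refine Or.inr (Subtype.ext ?_)
    show ∅ = symmDiff Finset.univ c.1
    rw [Finset.eq_univ_iff_forall.2 fun p => (hconst p).1 h23, symmDiff_self]; rfl
  · exact Or.inl (Subtype.ext (Finset.eq_empty_of_forall_notMem fun p hp => h23 ((hconst p).2 hp)))

theorem natCard_mono_le : Nat.card ↥(cxt ⊓ CoOneUniq.N0) ≤ 8 := by
  classical
  choose s c hs using fun g : ↥(cxt ⊓ CoOneUniq.N0) => CoOneUniq.mem_N0.1 g.2.2
  have hmem : ∀ g : ↥(cxt ⊓ CoOneUniq.N0), code7 (s g) ∈ autos.toFinset := fun g =>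
    List.mem_toFinset.2 (code7_mem (c := c g) (hs g ▸ g.2.1))
  have hinj : Function.Injective fun g => (⟨code7 (s g), hmem g⟩ : ↥autos.toFinset) := by
    intro a b e
    have e' : code7 (s a) = code7 (s b) := congrArg Subtype.val e
    have hσ : s a = s b := Subtype.ext (Equiv.ext fun p => Golay.idx_injective (by
      have h1 : (idx p, idx ((s a).1 (pt (idx p)))) ∈ code7 (s a) :=
        (mem_graph _ _ _ _).2 (Or.inl ⟨_, autos_ok.2.2.2.1 _ (Golay.idx_lt p), rfl⟩)
      rw [e', code7, mem_graph] at h1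
      rcases h1 with ⟨i, -, h1⟩ | h1
      · obtain ⟨h2, h3⟩ := Prod.mk.inj h1
        simp only [← h2, Golay.pt_idx] at h3
        exact h3
      · simp at h1))
    have hm : (a : Spor.Co1)⁻¹ * b ∈ cxt := mul_mem (inv_mem a.2.1) b.2.1
    obtain ⟨μ, d, hd⟩ := CoOneUniq.mem_N0.1 (mul_mem (inv_mem a.2.2) b.2.2)
    have h4 : nmono (s a) (c a) * nmono μ d = nmono (s b) (c b) := by
      rw [← hs a, ← hs b, ← hd, mul_inv_cancel_left]
    rw [nmono_mul, hσ] at h4
    have hμ : μ = 1 := mul_eq_left.1 (nmono_eq_iff.1 h4).1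
    rw [hd, hμ] at hm
    have := sign_trivial hm
    rw [← hμ, ← hd, inv_mul_eq_one] at this
    exact Subtype.ext this
  refine (Nat.card_le_card_of_injective _ hinj).trans ?_
  rw [Nat.card_eq_fintype_card, Fintype.card_coe]
  exact (List.toFinset_card_le _).trans autos_ok.1.le

/-- The bound. -/
theorem natCard_cxt_le : Nat.card ↥cxt ≤ 168 := by
  classical
  rw [Subgroup.card_eq_card_quotient_mul_card_subgroup ((cxt ⊓ CoOneUniq.N0).subgroupOf cxt),
    Nat.card_congr (Subgroup.subgroupOfEquivOfLe (inf_le_left : cxt ⊓ CoOneUniq.N0 ≤ cxt)).toEquiv]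
  have hq : Nat.card (↥cxt ⧸ (cxt ⊓ CoOneUniq.N0).subgroupOf cxt) ≤ 21 := by
    let F : (↥cxt ⧸ (cxt ⊓ CoOneUniq.N0).subgroupOf cxt) → ↥orbS.toFinset :=
      fun q => ⟨fr (q.out : Spor.Co1), List.mem_toFinset.2 (fr_mem_orbS q.out.2)⟩
    have hF : Function.Injective F := by
      intro a b e
      have h := fr_eq_iff.1 (congrArg Subtype.val e)
      rw [← QuotientGroup.out_eq' a, ← QuotientGroup.out_eq' b, QuotientGroup.eq, Subgroup.mem_subgroupOf]
      exact ⟨(a.out⁻¹ * b.out).2, h⟩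
    refine (Nat.card_le_card_of_injective _ hF).trans ?_
    rw [Nat.card_eq_fintype_card, Fintype.card_coe]
    exact (List.toFinset_card_le _).trans cand_ok.2.2.2.2.2.2.2.2.1.le
  calc _ ≤ 21 * 8 := Nat.mul_le_mul hq natCard_mono_le
    _ = 168 := rfl

end Cfsg.Agent.CoOneLocal
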