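/-
A subgroup of order seven of Co1 with centraliser `7 × A7`.

* `exists_seven`
-/
import Cfsg.Agent.Lib.CoOneLocal.SevenBound
import Cfsg.Agent.Lib.AltPresent.Carmichael
import Cfsg.Agent.Lib.TransvCent.Closing

set_option autoImplicit false
set_option maxRecDepth 100000
open scoped Pointwise

namespace Cfsg.Agent.CoOneLocal

open Cfsg Leech MonsterLocal CoOneUniq AltPresent Equiv.Perm

/-- The generators. -/
def sevenAs : Fin 5 → MatData := ![sevenA0, sevenA1, sevenA2, sevenA3, sevenA4]

/-- The identity rows. -/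
def oneRows : List ℕ := (List.range 24).map (2 ^ ·)

theorem seven_checks : (∀ i : Fin 5, okM (sevenAs i) = true) ∧
    (∀ i : Fin 5, mmul (matRows (sevenAs i)) (mmul (matRows (sevenAs i)) (matRows (sevenAs i))) = oneRows) ∧
    (∀ i j : Fin 5, i = j ∨
      mmul (mmul (matRows (sevenAs i)) (matRows (sevenAs j))) (mmul (matRows (sevenAs i)) (matRows (sevenAs j)))
        = oneRows) ∧
    (∀ i : Fin 5, mmul (matRows (sevenAs i)) (matRows sevenX) = mmul (matRows sevenX) (matRows (sevenAs i))) ∧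
    matRows (sevenAs 0) ≠ oneRows ∧ matRows sevenX ≠ oneRows ∧
    mmul (matRows sevenX) (mmul (matRows sevenX) (mmul (matRows sevenX) (mmul (matRows sevenX)
      (mmul (matRows sevenX) (mmul (matRows sevenX) (matRows sevenX)))))) = oneRows ∧
    mmul (matRows (sevenAs 1)) (mmul (matRows (sevenAs 3)) (mmul (matRows (sevenAs 2))
      (mmul (matRows (sevenAs 4)) (mmul (matRows (sevenAs 1)) (matRows (sevenAs 3)))))) = tRows := by
  decide +kernel

/-- The permutation of the involution. -/
def invT : Equiv.Perm (Fin 7) := Equiv.swap 3 4 * Equiv.swap 5 6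

theorem invT_word : (finSumFinEquiv : Fin 2 ⊕ Fin 5 ≃ Fin 7).permCongr
    (cyc 1 * (cyc 3 * (cyc 2 * (cyc 4 * (cyc 1 * cyc 3))))) = invT := by
  decide +kernel

theorem invT_even : invT ∈ alternatingGroup (Fin 7) :=
  Equiv.Perm.mem_alternatingGroup.2 (by decide +kernel)

/-- The involution in the alternating group. -/
def aT : alternatingGroup (Fin 7) := ⟨invT, invT_even⟩

theorem invT_facts : invT * invT = 1 ∧ invT ≠ 1 ∧ sign (Equiv.swap (3 : Fin 7) 4) = -1 ∧
    Equiv.swap (3 : Fin 7) 4 * invT = invT * Equiv.swap 3 4 ∧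
    (Finset.univ.filter fun s : Equiv.Perm (Fin 7) => sign s = 1 ∧ s * invT = invT * s).card = 24 := by
  decide +kernel

theorem card_cent_aT : Nat.card (Subgroup.centralizer ({aT} : Set (alternatingGroup (Fin 7)))) = 24 := by
  classical
  rw [← invT_facts.2.2.2.2, ← Nat.card_eq_finsetCard]
  refine Nat.card_congr
    { toFun := fun s => ⟨s.1.1, Finset.mem_filter.2 ⟨Finset.mem_univ _, Equiv.Perm.mem_alternatingGroup.1 s.1.2,
        congrArg Subtype.val (Subgroup.mem_centralizer_singleton_iff.1 s.2)⟩⟩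
      invFun := fun s => ⟨⟨s.1, Equiv.Perm.mem_alternatingGroup.2 (Finset.mem_filter.1 s.2).2.1⟩,
        Subgroup.mem_centralizer_singleton_iff.2 (Subtype.ext (Finset.mem_filter.1 s.2).2.2)⟩
      left_inv := fun s => rfl
      right_inv := fun s => rfl }

theorem one_class {u : alternatingGroup (Fin 7)} (h2 : u * u = 1) (h1 : u ≠ 1) :
    ∃ h : alternatingGroup (Fin 7), h * aT * h⁻¹ = u := by
  haveI : Fact (Nat.Prime 2) := ⟨Nat.prime_two⟩
  have hord : orderOf (u : Equiv.Perm (Fin 7)) = 2 :=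
    orderOf_eq_prime (by rw [sq]; exact congrArg Subtype.val h2) fun e => h1 (Subtype.ext e)
  have hct : ∀ v : Equiv.Perm (Fin 7), orderOf v = 2 → sign v = 1 →
      v.cycleType = Multiset.replicate 2 2 := by
    intro v hv hs
    obtain ⟨n, hn⟩ := cycleType_prime_order (σ := v) (by rw [hv]; exact Nat.prime_two)
    rw [hv] at hn
    have hle : v.cycleType.sum ≤ 7 := by
      rw [sum_cycleType]; exact (Finset.card_le_univ _).trans (by simp)
    rw [hn, Multiset.sum_replicate, smul_eq_mul] at hle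
    rw [sign_of_cycleType, hn, Multiset.sum_replicate, Multiset.card_replicate, smul_eq_mul] at hs
    have hn3 : n < 3 := by omega
    rw [hn]
    interval_cases n
    · exact absurd hs (by decide)
    · rfl
    · exact absurd hs (by decide)
  have hc : IsConj invT (u : Equiv.Perm (Fin 7)) := by
    rw [isConj_iff_cycleType_eq, hct _ (orderOf_eq_prime (by rw [sq]; exact invT_facts.1) invT_facts.2.1)
      (Equiv.Perm.mem_alternatingGroup.1 invT_even), hct _ hord (Equiv.Perm.mem_alternatingGroup.1 u.2)]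
  obtain ⟨h, hh⟩ := isConj_iff.1 hc
  rcases Int.units_eq_one_or (sign h) with hs | hs
  · exact ⟨⟨h, Equiv.Perm.mem_alternatingGroup.2 hs⟩, Subtype.ext hh⟩
  · refine ⟨⟨h * Equiv.swap 3 4, Equiv.Perm.mem_alternatingGroup.2 ?_⟩, Subtype.ext ?_⟩
    · rw [map_mul, hs, invT_facts.2.2.1]; rfl
    · show h * Equiv.swap 3 4 * invT * (h * Equiv.swap 3 4)⁻¹ = _
      rw [← hh, mul_inv_rev, mul_assoc h, invT_facts.2.2.2.1]
      group

/-- The seven-cycle. -/
def cyc7 : Equiv.Perm (Fin 7) := finRotate 7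

/-- A permutation of seven points as a list. -/
def toL (a : Equiv.Perm (Fin 7)) : List ℕ := List.ofFn fun i => (a i).val

/-- The product of two lists. -/
def mulL (p q : List ℕ) : List ℕ := q.map fun i => p.getD i 0

/-- The lists of distinct points. -/
def distL : ℕ → List (List ℕ)
  | 0 => [[]]
  | k + 1 => (distL k).flatMap fun l => ((List.range 7).filter fun j => !l.contains j).map (· :: l)

/-- The powers of a list. -/
def powL (p : List ℕ) : ℕ → List ℕ
  | 0 => List.range 7
  | n + 1 => mulL p (powL p n)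

/-- The check on one list. -/
def check57 (p : List ℕ) : Bool := !(powL p 5 == List.range 7) || p == List.range 7 ||
    (List.range 2).any fun i => (List.range 7).any fun j =>
      let w := mulL (powL p (i + 1)) (powL [1, 2, 3, 4, 5, 6, 0] j)
      powL w 12 == List.range 7 && !(powL w 3 == List.range 7)

set_option maxHeartbeats 4000000 in
theorem five_seven_list : (distL 7).all check57 = true := by decide +kernel

theorem toL_cyc7 : toL cyc7 = [1, 2, 3, 4, 5, 6, 0] := by decide +kernel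

theorem toL_mul (a b : Equiv.Perm (Fin 7)) : toL (a * b) = mulL (toL a) (toL b) := by
  simp only [toL, mulL, List.map_ofFn]
  refine congrArg List.ofFn (funext fun i => ?_)
  show (a (b i)).val = ([] ++ List.ofFn fun k => (a k).val).getD (b i).val 0
  rw [List.nil_append, List.getD_eq_getElem _ _ (by simp), List.getElem_ofFn]

theorem toL_one : toL 1 = List.range 7 := by decide +kernel

theorem toL_pow (a : Equiv.Perm (Fin 7)) : ∀ n, toL (a ^ n) = powL (toL a) n
  | 0 => by rw [pow_zero, toL_one]; rfl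
  | n + 1 => by rw [pow_succ', toL_mul, toL_pow a n]; rfl

theorem toL_inj {a b : Equiv.Perm (Fin 7)} (h : toL a = toL b) : a = b :=
  Equiv.ext fun i => Fin.val_injective (congrFun (List.ofFn_injective h) i)

theorem mem_distL : ∀ l : List ℕ, l.Nodup → (∀ x ∈ l, x < 7) → l ∈ distL l.length
  | [], _, _ => by simp [distL]
  | x :: l, hn, hl => by
    rw [List.nodup_cons] at hn
    simp only [List.length_cons, distL, List.mem_flatMap, List.mem_map, List.mem_filter, List.mem_range]
    exact ⟨l, mem_distL l hn.2 fun y hy => hl y (List.mem_cons_of_mem _ hy), x,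
      ⟨hl x List.mem_cons_self, by simpa using hn.1⟩, rfl⟩

theorem five_seven (a : Equiv.Perm (Fin 7)) (h5 : a ^ 5 = 1) (h1 : a ≠ 1) :
    ∃ i : Fin 2, ∃ j : Fin 7, (a ^ (i.val + 1) * cyc7 ^ j.val) ^ 12 = 1 ∧
      (a ^ (i.val + 1) * cyc7 ^ j.val) ^ 3 ≠ 1 := by
  have hmem : toL a ∈ distL 7 := by
    have h := mem_distL (toL a) (List.nodup_ofFn.2 (Fin.val_injective.comp a.injective)) fun x hx => by
      obtain ⟨i, rfl⟩ := List.mem_ofFn.1 hx
      exact (a i).isLt
    rwa [toL, List.length_ofFn] at h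
  have h := List.all_eq_true.1 five_seven_list _ hmem
  rw [check57, ← toL_cyc7, ← toL_pow, h5, ← toL_one] at h
  simp only [beq_self_eq_true, Bool.not_true, Bool.false_or, Bool.or_eq_true, beq_iff_eq] at h
  rcases h with h | h
  · exact absurd (toL_inj h) h1
  · obtain ⟨i, hi, h⟩ := List.any_eq_true.1 h
    obtain ⟨j, hj, h⟩ := List.any_eq_true.1 h
    simp only [← toL_pow, ← toL_mul, Bool.and_eq_true, beq_iff_eq, Bool.not_eq_true', beq_eq_false_iff_ne] at h
    exact ⟨⟨i, List.mem_range.1 hi⟩, ⟨j, List.mem_range.1 hj⟩, toL_inj h.1, fun e => h.2 (congrArg toL e)⟩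

theorem card_A7 : Nat.card (alternatingGroup (Fin 7)) = 2520 := by
  have h := nat_card_alternatingGroup (α := Fin 7)
  simpa [Nat.factorial] using h

theorem odd_sub_small (P : Subgroup (alternatingGroup (Fin 7))) (hP : Odd (Nat.card P)) :
    Nat.card P < 105 := by
  by_contra hge
  have hd := Subgroup.card_subgroup_dvd_card P
  rw [card_A7] at hd
  have h315 : Nat.card P ∣ 315 := by
    have hc : Nat.Coprime (Nat.card P) (2 ^ 3) :=
      Nat.Coprime.pow_right 3 (Nat.Coprime.symm ((Nat.prime_two.coprime_iff_not_dvd).2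
        fun h => (Nat.not_even_iff_odd.2 hP) (even_iff_two_dvd.2 h)))
    exact hc.dvd_of_dvd_mul_left (show Nat.card P ∣ 2 ^ 3 * 315 from hd)
  have hcases : ∀ n : ℕ, n < 316 → n ∣ 315 → 105 ≤ n → 5 ∣ n ∧ 7 ∣ n := by decide +kernel
  obtain ⟨h5, h7⟩ := hcases _ (Nat.lt_succ_of_le (Nat.le_of_dvd (by norm_num) h315)) h315 (not_lt.1 hge)
  haveI : Fact (Nat.Prime 5) := ⟨by norm_num⟩
  haveI : Fact (Nat.Prime 7) := ⟨by norm_num⟩
  obtain ⟨a, ha⟩ := exists_prime_orderOf_dvd_card' 5 h5
  obtain ⟨b, hb⟩ := exists_prime_orderOf_dvd_card' 7 h7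
  let ι : P →* Equiv.Perm (Fin 7) := (alternatingGroup (Fin 7)).subtype.comp P.subtype
  have hι : Function.Injective ι := fun p q h => Subtype.ext (Subtype.ext h)
  have hc7 : IsConj (ι b) cyc7 := by
    have ho : orderOf (ι b) = 7 := (orderOf_injective ι hι b).trans hb
    rw [isConj_iff_cycleType_eq]
    obtain ⟨n, hn⟩ := cycleType_prime_order (σ := ι b) (by rw [ho]; norm_num)
    have hle : (ι b).cycleType.sum ≤ 7 := by
      rw [sum_cycleType]; exact (Finset.card_le_univ _).trans (by simp)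
    rw [hn, ho, Multiset.sum_replicate, smul_eq_mul] at hle
    rw [hn, ho, show n = 0 by omega, show cyc7 = finRotate (5 + 2) from rfl, cycleType_finRotate]
    rfl
  obtain ⟨g, hg⟩ := isConj_iff.1 hc7
  let κ : P →* Equiv.Perm (Fin 7) := (MulAut.conj g).toMonoidHom.comp ι
  have hκ : Function.Injective κ := (MulAut.conj g).injective.comp hι
  have ha' : orderOf (κ a) = 5 := (orderOf_injective κ hκ a).trans ha
  have hb' : κ b = cyc7 := hg
  obtain ⟨i, j, h12, h3⟩ := five_seven (κ a) (ha' ▸ pow_orderOf_eq_one _)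
    (fun e => by rw [e, orderOf_one] at ha'; norm_num at ha')
  set w : P := a ^ (i.val + 1) * b ^ j.val
  have hw : κ w = κ a ^ (i.val + 1) * cyc7 ^ j.val := by rw [map_mul, map_pow, map_pow, hb']
  rw [← hw, ← map_pow, ← map_one κ] at h12 h3
  have h12' : w ^ 12 = 1 := hκ h12
  have hco : Nat.Coprime (orderOf w) (2 ^ 2) := Nat.Coprime.pow_right 2 (Nat.Coprime.symm
    ((Nat.prime_two.coprime_iff_not_dvd).2 fun h =>
      (Nat.not_even_iff_odd.2 hP) (even_iff_two_dvd.2 (h.trans (orderOf_dvd_natCard w)))))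
  have hd3 : orderOf w ∣ 3 := hco.dvd_of_dvd_mul_left
    (show orderOf w ∣ 2 ^ 2 * 3 from orderOf_dvd_of_pow_eq_one h12')
  exact h3 (congrArg κ (orderOf_dvd_iff_pow_eq_one.1 hd3))

/-- The counting criterion. -/
theorem le_of_inverted {G : Type*} [Group G] [Finite G] {K H : Subgroup G} (hHK : H ≤ K) {t : G} (ht : t ∈ H)
    (ht2 : t * t = 1) (ht1 : t ≠ 1) (hclass : ∀ u ∈ H, u * u = 1 → u ≠ 1 → ∃ h ∈ H, h * t * h⁻¹ = u)
    (hcent : ∀ k ∈ K, k * t = t * k → k ∈ H)
    (hbound : ∀ u ∈ K, u ∉ H → u * u = 1 → (∀ w ∈ H, w * w = 1 → u * w * u⁻¹ ∈ H → w = 1) →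
      Nat.card {d : G // d ∈ H ∧ u * d * u⁻¹ = d⁻¹} < Nat.card {w : G // w ∈ H ∧ w * w = 1 ∧ w ≠ 1}) :
    K ≤ H := by
  classical
  haveI := Fintype.ofFinite G
  have centAll : ∀ w ∈ H, w * w = 1 → w ≠ 1 → ∀ k ∈ K, k * w = w * k → k ∈ H := by
    intro w hw w2 w1 k hk hkw
    obtain ⟨h, hh, rfl⟩ := hclass w hw w2 w1
    have hhK := hHK hh
    have := hcent (h⁻¹ * k * h) (K.mul_mem (K.mul_mem (K.inv_mem hhK) hk) hhK) (by
      calc h⁻¹ * k * h * t = h⁻¹ * (k * (h * t * h⁻¹)) * h := by group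
        _ = h⁻¹ * ((h * t * h⁻¹) * k) * h := by rw [hkw]
        _ = _ := by group)
    have := H.mul_mem (H.mul_mem hh this) (H.inv_mem hh)
    rwa [show h * (h⁻¹ * k * h) * h⁻¹ = k by group] at this
  have conjAll : ∀ u ∈ K, u * u = 1 → u ≠ 1 → ∃ k ∈ K, k * t * k⁻¹ = u := by
    intro u hu u2 u1
    by_cases huH : u ∈ H
    · obtain ⟨h, hh, e⟩ := hclass u huH u2 u1
      exact ⟨h, hHK hh, e⟩
    set d := t * u with hd
    have hdK : d ∈ K := K.mul_mem (hHK ht) hu
    rcases Nat.even_or_odd (orderOf d) with ⟨k, hk⟩ | ⟨k, hk⟩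
    · exfalso
      have hkpos : 0 < k := by have := orderOf_pos d; omega
      have hw2 : d ^ k * d ^ k = 1 := by rw [← pow_add, ← hk]; exact pow_orderOf_eq_one d
      have hw1 : d ^ k ≠ 1 := pow_ne_one_of_lt_orderOf (by omega) (by omega)
      have ct := TransvCent.Closing.inv_conj_pow ht2 u2 k
      rw [← hd, inv_eq_of_mul_eq_one_right hw2] at ct
      have hwt : d ^ k * t = t * d ^ k := by
        calc d ^ k * t = t * d ^ k * t * t := by rw [ct]
          _ = t * d ^ k * (t * t) := by group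
          _ = t * d ^ k := by rw [ht2, mul_one]
      have hwH : d ^ k ∈ H := hcent _ (K.pow_mem hdK k) hwt
      refine huH (centAll _ hwH hw2 hw1 u hu ?_)
      have e : u = t * d := by rw [hd, ← mul_assoc, ht2, one_mul]
      rw [e, ← mul_assoc (d ^ k), hwt, mul_assoc t d, mul_assoc t (d ^ k), ← pow_succ', ← pow_succ]
    · refine ⟨d ^ k, K.pow_mem hdK _, ?_⟩
      have ct := TransvCent.Closing.conj_left ht2 u2 k
      rw [← hd] at ct
      have h1 : d ^ (k + k) * d = 1 := by
        rw [← pow_succ, show k + k + 1 = orderOf d by omega]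
        exact pow_orderOf_eq_one d
      rw [ct, eq_inv_of_mul_eq_one_left h1, hd, mul_inv_rev, inv_eq_of_mul_eq_one_right ht2,
        inv_eq_of_mul_eq_one_right u2, mul_assoc, ht2, mul_one]
  by_contra hKH
  let I : Finset G := Finset.univ.filter fun u => u ∈ K ∧ u * u = 1 ∧ u ≠ 1
  let IH : Finset G := Finset.univ.filter fun u => u ∈ H ∧ u * u = 1 ∧ u ≠ 1
  let C : Subgroup G := H ⊓ Subgroup.centralizer {t}
  have cardConj : ∀ (L : Subgroup G), C ≤ L → (∀ k ∈ L, k * t = t * k → k ∈ C) → t ∈ L →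
      (∀ u ∈ L, u * u = 1 → u ≠ 1 → ∃ k ∈ L, k * t * k⁻¹ = u) →
      (Finset.univ.filter fun u => u ∈ L ∧ u * u = 1 ∧ u ≠ 1).card * Nat.card C = Nat.card L := by
    intro L hCL hLC htL hconj
    have hmaps : ∀ k ∈ (Finset.univ.filter fun k => k ∈ L),
        k * t * k⁻¹ ∈ (Finset.univ.filter fun u => u ∈ L ∧ u * u = 1 ∧ u ≠ 1) := by
      intro k hk
      simp only [Finset.mem_filter, Finset.mem_univ, true_and] at hk ⊢
      refine ⟨L.mul_mem (L.mul_mem hk htL) (L.inv_mem hk), ?_, fun e => ht1 (conj_eq_one_iff.1 e)⟩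
      calc k * t * k⁻¹ * (k * t * k⁻¹) = k * (t * t) * k⁻¹ := by group
        _ = 1 := by rw [ht2]; group
    rw [show Nat.card L = (Finset.univ.filter fun k => k ∈ L).card by
      rw [Nat.card_eq_fintype_card, Fintype.card_subtype], Finset.card_eq_sum_card_fiberwise hmaps,
      ← smul_eq_mul, ← Finset.sum_const]
    refine Finset.sum_congr rfl fun u hu => ?_
    simp only [Finset.mem_filter, Finset.mem_univ, true_and] at hu
    obtain ⟨k, hk, rfl⟩ := hconj u hu.1 hu.2.1 hu.2.2
    rw [Finset.filter_filter, ← Finset.card_map (Equiv.mulLeft k⁻¹).toEmbedding, Nat.card_eq_fintype_card,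
      Fintype.card_subtype]
    refine congrArg Finset.card (Finset.ext fun c => ?_)
    simp only [Finset.mem_map_equiv, Finset.mem_filter, Finset.mem_univ, true_and, Equiv.mulLeft_symm,
      Equiv.coe_mulLeft, inv_inv]
    constructor
    · intro hc
      refine ⟨L.mul_mem hk (hCL hc), ?_⟩
      have := Subgroup.mem_centralizer_singleton_iff.1 hc.2
      calc k * c * t * (k * c)⁻¹ = k * (c * t) * c⁻¹ * k⁻¹ := by group
        _ = _ := by rw [this]; group
    · rintro ⟨h1, h2⟩
      refine hLC c (by simpa [← mul_assoc] using L.mul_mem (L.inv_mem hk) h1) ?_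
      calc c * t = k⁻¹ * (k * c * t * (k * c)⁻¹) * k * c := by group
        _ = t * c := by rw [h2]; group
  have eH : IH.card * Nat.card C = Nat.card H :=
    cardConj H inf_le_left (fun k hk e => ⟨hk, Subgroup.mem_centralizer_singleton_iff.2 e⟩) ht hclass
  have eK : I.card * Nat.card C = Nat.card K :=
    cardConj K (inf_le_left.trans hHK) (fun k hk e => ⟨hcent k hk e, Subgroup.mem_centralizer_singleton_iff.2 e⟩)
      (hHK ht) conjAll
  set m := Nat.card (↥K ⧸ H.subgroupOf K) with hm
  have hKm : Nat.card K = m * Nat.card H := by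
    rw [Subgroup.card_eq_card_quotient_mul_card_subgroup (H.subgroupOf K), hm,
      Nat.card_congr (Subgroup.subgroupOfEquivOfLe hHK).toEquiv]
  have hIH : I.card = m * IH.card := by
    have hC : 0 < Nat.card C := Nat.card_pos
    refine Nat.eq_of_mul_eq_mul_right hC ?_
    rw [eK, hKm, mul_assoc, eH]
  -- the fibres over the cosets
  haveI : Fintype (↥K ⧸ H.subgroupOf K) := Fintype.ofFinite _
  let q : G → ↥K ⧸ H.subgroupOf K := fun u => if h : u ∈ K then QuotientGroup.mk ⟨u, h⟩ else QuotientGroup.mk 1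
  let q0 : ↥K ⧸ H.subgroupOf K := QuotientGroup.mk 1
  have hqK : ∀ u (hu : u ∈ K), q u = QuotientGroup.mk ⟨u, hu⟩ := fun u hu => dif_pos hu
  have hn : IH.card = Nat.card {w : G // w ∈ H ∧ w * w = 1 ∧ w ≠ 1} := by
    rw [Nat.card_eq_fintype_card, Fintype.card_subtype]
  have hI : ∀ {u}, u ∈ I → u ∈ K ∧ u * u = 1 ∧ u ≠ 1 := fun h => by simpa [I] using h
  have hfib : ∀ c : ↥K ⧸ H.subgroupOf K, c ≠ q0 → (I.filter fun u => q u = c).card + 1 ≤ IH.card := by
    intro c hc
    rcases (I.filter fun u => q u = c).eq_empty_or_nonempty with h | ⟨u, hu⟩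
    · rw [h, Finset.card_empty, zero_add]
      exact Finset.card_pos.2 ⟨t, by simp [IH, ht, ht2, ht1]⟩
    obtain ⟨huI, huc⟩ := Finset.mem_filter.1 hu
    obtain ⟨huK, u2, u1⟩ := hI huI
    have huH : u ∉ H := fun h => hc (by
      rw [← huc, hqK u huK, QuotientGroup.eq, Subgroup.mem_subgroupOf]
      simpa using h)
    have hw : ∀ w ∈ H, w * w = 1 → u * w * u⁻¹ ∈ H → w = 1 := by
      intro w hw w2 hc'
      by_contra w1
      obtain ⟨h, hh, e⟩ := hclass (u * w * u⁻¹) hc'
        (by rw [show u * w * u⁻¹ * (u * w * u⁻¹) = u * (w * w) * u⁻¹ by group, w2]; group)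
        (fun e => w1 (conj_eq_one_iff.1 e))
      obtain ⟨h', hh', e'⟩ := hclass w hw w2 w1
      have h5 : h⁻¹ * u * h' ∈ H := hcent _ (K.mul_mem (K.mul_mem (K.inv_mem (hHK hh)) huK) (hHK hh')) (by
        calc h⁻¹ * u * h' * t = h⁻¹ * u * (h' * t * h'⁻¹) * h' := by group
          _ = h⁻¹ * (u * w * u⁻¹) * u * h' := by rw [e']; group
          _ = _ := by rw [← e]; group)
      have := H.mul_mem (H.mul_mem hh h5) (H.inv_mem hh')
      exact huH (by rwa [show h * (h⁻¹ * u * h') * h'⁻¹ = u by group] at this)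
    have hlt := hbound u huK huH u2 hw
    rw [← hn] at hlt
    refine Nat.succ_le_of_lt (lt_of_le_of_lt ?_ hlt)
    have hmem : ∀ v ∈ I.filter fun u => q u = c, u * v ∈ H ∧ u * (u * v) * u⁻¹ = (u * v)⁻¹ := by
      intro v hv
      obtain ⟨hvI, hvc⟩ := Finset.mem_filter.1 hv
      obtain ⟨hvK, v2, -⟩ := hI hvI
      refine ⟨?_, ?_⟩
      · have e := huc.trans hvc.symm
        rw [hqK u huK, hqK v hvK, QuotientGroup.eq, Subgroup.mem_subgroupOf] at e
        simpa [inv_eq_of_mul_eq_one_right u2] using e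
      · rw [mul_inv_rev, inv_eq_of_mul_eq_one_right v2, inv_eq_of_mul_eq_one_right u2, ← mul_assoc, u2, one_mul]
    rw [← Nat.card_eq_finsetCard]
    exact Nat.card_le_card_of_injective (fun v => ⟨u * v.1, hmem v.1 v.2⟩)
      fun a b e => Subtype.ext (mul_left_cancel (congrArg Subtype.val e))
  have hsum := Finset.card_eq_sum_card_fiberwise (s := I) (t := (Finset.univ : Finset (↥K ⧸ H.subgroupOf K)))
    (f := q) (fun _ _ => Finset.mem_univ _)
  have h0 : (I.filter fun u => q u = q0).card ≤ IH.card := Finset.card_le_card fun u hu => by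
    obtain ⟨huI, huc⟩ := Finset.mem_filter.1 hu
    obtain ⟨huK, u2, u1⟩ := hI huI
    rw [hqK u huK] at huc
    have := Subgroup.mem_subgroupOf.1 (QuotientGroup.eq.1 huc)
    have huH : u ∈ H := by simpa using this
    simp [IH, huH, u2, u1]
  have hle : ∑ c, (I.filter fun u => q u = c).card + (Finset.univ.erase q0).card ≤ m * IH.card := by
    rw [← Finset.add_sum_erase _ _ (Finset.mem_univ q0), add_assoc,
      Finset.card_eq_sum_ones (Finset.univ.erase q0), ← Finset.sum_add_distrib]
    refine (Nat.add_le_add h0 (Finset.sum_le_card_nsmul _ _ _ fun c hc =>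
      hfib c (Finset.ne_of_mem_erase hc))).trans ?_
    rw [smul_eq_mul, Finset.card_erase_of_mem (Finset.mem_univ _), Finset.card_univ, hm, Nat.card_eq_fintype_card]
    obtain ⟨p, hp⟩ : ∃ p, Fintype.card (↥K ⧸ H.subgroupOf K) = p + 1 :=
      ⟨_, (Nat.succ_pred_eq_of_pos Fintype.card_pos).symm⟩
    rw [hp, Nat.add_sub_cancel]; linarith [add_one_mul p IH.card]
  rw [← hsum, hIH] at hle
  obtain ⟨k, hk, hkH⟩ := SetLike.not_le_iff_exists.1 hKH
  have : 0 < (Finset.univ.erase q0).card := Finset.card_pos.2 ⟨QuotientGroup.mk ⟨k, hk⟩,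
    Finset.mem_erase.2 ⟨fun e => hkH (by
      have := Subgroup.mem_subgroupOf.1 (QuotientGroup.eq.1 e)
      simpa using this), Finset.mem_univ _⟩⟩
  omega

theorem sq_inj : ∀ y : Multiplicative (ZMod 7), y * y = 1 → y = 1 := by decide

/-- A subgroup of order seven whose centraliser is `7 × A7`. -/
theorem exists_seven : ∃ V : Subgroup Spor.Co1, Nat.card V = 7 ∧
    Nonempty (↥(Subgroup.centralizer (V : Set Spor.Co1)) ≃*
      Multiplicative (ZMod 7) × alternatingGroup (Fin 7)) := by
  classical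
  obtain ⟨hok, hcube, hpair, hcom, hne, hxne, hx7, hword⟩ := seven_checks
  have hX := ok_all.1
  have eX := mat_el1 hX
  have eA : ∀ i, mat (el1 (sevenAs i)) = matRows (sevenAs i) := fun i => mat_el1 (hok i)
  have e1 : mat (1 : Spor.Co1) = oneRows := mat_one
  set a : Fin 5 → Spor.Co1 := fun i => el1 (sevenAs i) with ha
  haveI : Fact (Nat.Prime 7) := ⟨by norm_num⟩
  have hox : orderOf x7 = 7 := orderOf_eq_prime (mat_inj (by
    simp only [pow_succ', pow_zero, mul_one, mat_mul, eX, e1]
    exact hx7)) (fun e => hxne (by rw [← eX, show el1 sevenX = 1 from e, e1]))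
  have h3 : ∀ i, a i ^ 3 = 1 := fun i => mat_inj (by
    simp only [ha, pow_succ', pow_zero, mul_one, mat_mul, eA, e1]
    exact hcube i)
  have h2 : ∀ i j, i ≠ j → (a i * a j) ^ 2 = 1 := fun i j hij => mat_inj (by
    simp only [ha, sq, mat_mul, eA, e1]
    exact (hpair i j).resolve_left hij)
  have hax : ∀ i, a i * x7 = x7 * a i := fun i => mat_inj (by
    simp only [ha, mat_mul, eA, eX]
    exact hcom i)
  obtain ⟨φ, hφ, hr⟩ := exists_hom a h3 h2
  let α : alternatingGroup (Fin 2 ⊕ Fin 5) ≃* alternatingGroup (Fin 7) := Equiv.altCongrHom finSumFinEquiv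
  let ψ : alternatingGroup (Fin 7) →* Spor.Co1 := φ.comp α.symm.toMonoidHom
  have hψt : ψ aT = t7 := by
    let w : alternatingGroup (Fin 2 ⊕ Fin 5) :=
      ⟨cyc 1, cyc_mem_alternatingGroup 1⟩ * (⟨cyc 3, cyc_mem_alternatingGroup 3⟩ *
        (⟨cyc 2, cyc_mem_alternatingGroup 2⟩ * (⟨cyc 4, cyc_mem_alternatingGroup 4⟩ *
          (⟨cyc 1, cyc_mem_alternatingGroup 1⟩ * ⟨cyc 3, cyc_mem_alternatingGroup 3⟩))))
    have hw : α w = aT := Subtype.ext invT_word
    show φ (α.symm aT) = t7
    rw [← hw, α.symm_apply_apply, map_mul, map_mul, map_mul, map_mul, map_mul, hφ, hφ, hφ, hφ]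
    refine mat_inj ?_
    simp only [ha, mat_mul, eA, mat_t7]
    exact hword
  have hψi : Function.Injective ψ := by
    haveI : IsSimpleGroup (alternatingGroup (Fin 7)) := alternatingGroup.isSimpleGroup (by simp)
    rw [← MonoidHom.ker_eq_bot_iff]
    refine ψ.normal_ker.eq_bot_or_eq_top.resolve_right fun e => ?_
    have h0 : φ (α.symm (α ⟨cyc (0 : Fin 5), cyc_mem_alternatingGroup 0⟩)) = 1 :=
      MonoidHom.mem_ker.1 (show (α ⟨cyc (0 : Fin 5), cyc_mem_alternatingGroup 0⟩) ∈ ψ.ker by
        rw [e]; exact Subgroup.mem_top _)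
    rw [α.symm_apply_apply, hφ] at h0
    exact hne (by rw [← eA, show el1 (sevenAs 0) = 1 from h0, e1])
  have hψc : ∀ s, ψ s * x7 = x7 * ψ s := by
    intro s
    have hmem : ψ s ∈ Subgroup.closure (Set.range a) := hr ▸ ⟨_, rfl⟩
    have hle : Subgroup.closure (Set.range a) ≤ Subgroup.centralizer {x7} := by
      rw [Subgroup.closure_le]
      rintro _ ⟨i, rfl⟩
      exact Subgroup.mem_centralizer_singleton_iff.2 (hax i)
    exact Subgroup.mem_centralizer_singleton_iff.1 (hle hmem)
  let e7 : Multiplicative (ZMod 7) ≃* Subgroup.zpowers x7 :=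
    mulEquivOfCyclicCardEq (by rw [Nat.card_zpowers, hox]; simp)
  let f7 : Multiplicative (ZMod 7) →* Spor.Co1 := (Subgroup.zpowers x7).subtype.comp e7.toMonoidHom
  have hf7 : ∀ m, ∃ n : ℤ, x7 ^ n = f7 m := fun m => (e7 m).2
  have hcomm : ∀ m s, Commute (f7 m) (ψ s) := fun m s => by
    obtain ⟨n, hn⟩ := hf7 m
    rw [← hn]
    exact (show Commute x7 (ψ s) from (hψc s).symm).zpow_left n
  let F : Multiplicative (ZMod 7) × alternatingGroup (Fin 7) →* Spor.Co1 := MonoidHom.noncommCoprod f7 ψ hcomm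
  have hFi : Function.Injective F := by
    rw [injective_iff_map_eq_one]
    rintro ⟨m, s⟩ h
    have h' : f7 m * ψ s = 1 := h
    have hs : s ∈ Subgroup.center (alternatingGroup (Fin 7)) := by
      refine Subgroup.mem_center_iff.2 fun b => hψi ?_
      have e : ψ s = (f7 m)⁻¹ := eq_inv_of_mul_eq_one_right h'
      rw [map_mul, map_mul, e]
      exact (hcomm m b).symm.inv_right.eq
    rw [alternatingGroup.center_eq_bot (by simp), Subgroup.mem_bot] at hs
    subst hs
    rw [map_one, mul_one] at h'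
    have : e7 m = 1 := Subtype.ext h'
    rw [MulEquiv.map_eq_one_iff] at this
    rw [this]; rfl
  let K : Subgroup Spor.Co1 := Subgroup.centralizer {x7}
  let H : Subgroup Spor.Co1 := F.range
  have hHK : H ≤ K := by
    rintro _ ⟨⟨m, s⟩, rfl⟩
    refine K.mul_mem (Subgroup.mem_centralizer_singleton_iff.2 ?_)
      (Subgroup.mem_centralizer_singleton_iff.2 (hψc s))
    obtain ⟨n, hn⟩ := hf7 m
    show f7 m * x7 = x7 * f7 m
    rw [← hn]
    exact ((Commute.refl x7).zpow_left n).eq
  have hF1 : ∀ s, F (1, s) = ψ s := fun s => by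
    show f7 1 * ψ s = ψ s
    rw [map_one, one_mul]
  -- involutions of the image come from the alternating group
  have invH : ∀ u ∈ H, u * u = 1 → ∃ s : alternatingGroup (Fin 7), s * s = 1 ∧ u = ψ s := by
    rintro _ ⟨⟨m, s⟩, rfl⟩ h
    rw [← map_mul, ← map_one F] at h
    have h' := hFi h
    simp only [Prod.mk_mul_mk, Prod.mk_eq_one] at h'
    have hm : m = 1 := sq_inj m h'.1
    subst hm
    exact ⟨s, h'.2, hF1 s⟩
  have ht2 : t7 * t7 = 1 := by
    rw [← hψt, ← map_mul, show aT * aT = 1 from Subtype.ext invT_facts.1, map_one]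
  have hS : Nat.card ↥(H ⊓ Subgroup.centralizer {t7}) = 168 := by
    let S : Subgroup (Multiplicative (ZMod 7) × alternatingGroup (Fin 7)) :=
      (⊤ : Subgroup (Multiplicative (ZMod 7))).prod (Subgroup.centralizer {aT})
    have e : H ⊓ Subgroup.centralizer {t7} = S.map F := by
      ext g
      constructor
      · rintro ⟨⟨⟨m, s⟩, rfl⟩, h⟩
        refine ⟨(m, s), ⟨trivial, Subgroup.mem_centralizer_singleton_iff.2 ?_⟩, rfl⟩
        have h1 := Subgroup.mem_centralizer_singleton_iff.1 h
        rw [← hψt, ← hF1, ← map_mul, ← map_mul] at h1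
        exact congrArg Prod.snd (hFi h1)
      · rintro ⟨⟨m, s⟩, ⟨-, h⟩, rfl⟩
        refine ⟨⟨_, rfl⟩, Subgroup.mem_centralizer_singleton_iff.2 ?_⟩
        rw [← hψt, ← hF1, ← map_mul, ← map_mul]
        exact congrArg F (Prod.ext (by simp) (Subgroup.mem_centralizer_singleton_iff.1 h))
    rw [e, Subgroup.card_map_of_injective hFi, Nat.card_congr (Subgroup.prodEquiv _ _).toEquiv,
      Nat.card_prod, Subgroup.card_top, card_cent_aT]
    simp
  have hcent : ∀ k ∈ K, k * t7 = t7 * k → k ∈ H := by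
    intro k hk hkt
    have hle : H ⊓ Subgroup.centralizer {t7} ≤ cxt := fun g hg => ⟨hHK hg.1, hg.2⟩
    have heq := Subgroup.eq_of_le_of_card_ge hle (natCard_cxt_le.trans hS.ge)
    have hkc : k ∈ cxt := ⟨hk, Subgroup.mem_centralizer_singleton_iff.2 hkt⟩
    rw [← heq] at hkc
    exact hkc.1
  have hKH : K ≤ H := by
    refine le_of_inverted hHK (t := t7) ⟨(1, aT), (hF1 _).trans hψt⟩ ht2 ?_ ?_ hcent ?_
    · intro e
      exact invT_facts.2.1 (congrArg Subtype.val (hψi (hψt.trans (e.trans (map_one ψ).symm))))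
    · intro u hu u2 u1
      obtain ⟨s, s2, rfl⟩ := invH u hu u2
      obtain ⟨h, hh⟩ := one_class s2 (fun e => u1 (by rw [e, map_one]))
      exact ⟨ψ h, ⟨(1, h), hF1 h⟩, by rw [← hψt, ← map_inv, ← map_mul, ← map_mul, hh]⟩
    · intro u huK huH u2 hodd
      let M : Subgroup Spor.Co1 := H ⊓ H.map (MulAut.conj u).toMonoidHom
      let P : Subgroup (alternatingGroup (Fin 7)) := (M.comap F).map (MonoidHom.snd _ _)
      have huu : u⁻¹ = u := inv_eq_of_mul_eq_one_right u2
      have hMc : ∀ g ∈ H, u * g * u⁻¹ ∈ H → g ∈ M := fun g hg hc => ⟨hg, u * g * u⁻¹, hc, by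
        show u * (u * g * u⁻¹) * u⁻¹ = g
        rw [huu, show u * (u * g * u) * u = (u * u) * g * (u * u) by group, u2, one_mul, mul_one]⟩
      have hMM : ∀ g ∈ M, u * g * u⁻¹ ∈ H := by
        rintro g ⟨-, h, hh, rfl⟩
        show u * (u * h * u⁻¹) * u⁻¹ ∈ H
        rwa [huu, show u * (u * h * u) * u = (u * u) * h * (u * u) by group, u2, one_mul, mul_one]
      have hPodd : Odd (Nat.card P) := by
        rw [← Nat.not_even_iff_odd, even_iff_two_dvd]
        intro h
        have hMd : Nat.card P ∣ Nat.card M :=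
          (Subgroup.card_map_dvd _ _).trans (by
            rw [← Subgroup.card_map_of_injective (f := F) hFi,
              Subgroup.map_comap_eq_self (inf_le_left : M ≤ H)])
        haveI : Fact (Nat.Prime 2) := ⟨Nat.prime_two⟩
        obtain ⟨⟨w, hw⟩, hord⟩ := exists_prime_orderOf_dvd_card' 2 (h.trans hMd)
        rw [← orderOf_injective M.subtype M.subtype_injective, Subgroup.coe_subtype] at hord
        have w2 : w * w = 1 := by rw [← sq, ← hord]; exact pow_orderOf_eq_one _
        have := hodd w hw.1 w2 (hMM w hw)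
        simp [this] at hord
      have hsmall := odd_sub_small P hPodd
      have hn : Nat.card {w : Spor.Co1 // w ∈ H ∧ w * w = 1 ∧ w ≠ 1} = 105 := by
        have hidx := (Subgroup.centralizer ({aT} : Set (alternatingGroup (Fin 7)))).index_mul_card
        rw [card_cent_aT, card_A7] at hidx
        have hval : ∀ h : alternatingGroup (Fin 7), ψ (h * aT * h⁻¹) ∈ H ∧
            ψ (h * aT * h⁻¹) * ψ (h * aT * h⁻¹) = 1 ∧ ψ (h * aT * h⁻¹) ≠ 1 := fun h => by
          refine ⟨⟨(1, _), hF1 _⟩, ?_, fun e => ?_⟩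
          · rw [← map_mul, show h * aT * h⁻¹ * (h * aT * h⁻¹) = h * (aT * aT) * h⁻¹ by group,
              show aT * aT = 1 from Subtype.ext invT_facts.1, mul_one, mul_inv_cancel, map_one]
          · exact invT_facts.2.1 (congrArg Subtype.val (conj_eq_one_iff.1 (hψi (e.trans (map_one ψ).symm))))
        let Φ : alternatingGroup (Fin 7) ⧸ Subgroup.centralizer ({aT} : Set (alternatingGroup (Fin 7))) →
            {w : Spor.Co1 // w ∈ H ∧ w * w = 1 ∧ w ≠ 1} := fun c => ⟨_, hval c.out⟩
        have hΦ : Function.Bijective Φ := by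
          refine ⟨fun c d e => ?_, ?_⟩
          · have e' := hψi (congrArg Subtype.val e)
            rw [← QuotientGroup.out_eq' c, ← QuotientGroup.out_eq' d, QuotientGroup.eq,
              Subgroup.mem_centralizer_singleton_iff]
            calc c.out⁻¹ * d.out * aT = c.out⁻¹ * (d.out * aT * d.out⁻¹) * d.out := by group
              _ = _ := by rw [← e']; group
          · rintro ⟨w, hw, w2, w1⟩
            obtain ⟨s, s2, rfl⟩ := invH w hw w2
            obtain ⟨h, rfl⟩ := one_class s2 (fun e => w1 (by rw [e, map_one]))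
            refine ⟨QuotientGroup.mk h, Subtype.ext (congrArg ψ ?_)⟩
            obtain ⟨c, hc⟩ := QuotientGroup.mk_out_eq_mul (Subgroup.centralizer ({aT} : Set _)) h
            rw [hc]
            have hcc := Subgroup.mem_centralizer_singleton_iff.1 c.2
            calc h * (c : alternatingGroup (Fin 7)) * aT * (h * c)⁻¹
                = h * ((c : alternatingGroup (Fin 7)) * aT) * (c : alternatingGroup (Fin 7))⁻¹ * h⁻¹ := by group
              _ = _ := by rw [hcc]; group
        rw [← Nat.card_congr (Equiv.ofBijective Φ hΦ), ← Subgroup.index_eq_card]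
        omega
      rw [hn]
      have hD : Nat.card {d : Spor.Co1 // d ∈ H ∧ u * d * u⁻¹ = d⁻¹} ≤ Nat.card P := by
        choose p hp using fun d : {d : Spor.Co1 // d ∈ H ∧ u * d * u⁻¹ = d⁻¹} => d.2.1
        have hmemP : ∀ d, (p d).2 ∈ P := fun d => ⟨p d, by
          show F (p d) ∈ M
          rw [hp]
          exact hMc _ d.2.1 (d.2.2 ▸ H.inv_mem d.2.1), rfl⟩
        refine Nat.card_le_card_of_injective (fun d => (⟨(p d).2, hmemP d⟩ : ↥P)) fun d e h => ?_
        have hs : (p d).2 = (p e).2 := congrArg Subtype.val h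
        -- the quotient is a power of `x7`, fixed and inverted by `u`
        set g : Spor.Co1 := d.1 * e.1⁻¹ with hg
        obtain ⟨n, hn⟩ := hf7 ((p d).1 * (p e).1⁻¹)
        have hgx : g = x7 ^ n := by
          rw [hg, hn, ← hp d, ← hp e]
          show F (p d) * (F (p e))⁻¹ = _
          rw [← map_inv, ← map_mul]
          show f7 ((p d).1 * (p e).1⁻¹) * ψ ((p d).2 * (p e).2⁻¹) = _
          rw [hs, mul_inv_cancel, map_one, mul_one]
        have hge : g * e.1 = e.1 * g := by
          rw [hgx]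
          exact (show Commute e.1 x7 from
            Subgroup.mem_centralizer_singleton_iff.1 (hHK e.2.1)).zpow_right n |>.eq.symm
        have hug : u * g * u⁻¹ = g := by
          rw [hgx]
          rw [((show Commute u x7 from Subgroup.mem_centralizer_singleton_iff.1 huK).zpow_right n).eq,
            mul_inv_cancel_right]
        have hug' : u * g * u⁻¹ = g⁻¹ := by
          calc u * g * u⁻¹ = (u * d.1 * u⁻¹) * (u * e.1 * u⁻¹)⁻¹ := by rw [hg]; group
            _ = d.1⁻¹ * e.1 := by rw [d.2.2, e.2.2, inv_inv]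
            _ = (e.1 * g)⁻¹ * e.1 := by rw [← hge, hg]; group
            _ = g⁻¹ := by group
        have hg2 : g * g = 1 := by
          nth_rewrite 1 [← hug]
          rw [hug', inv_mul_cancel]
        obtain ⟨s, -, hs'⟩ := invH g (H.mul_mem d.2.1 (H.inv_mem e.2.1)) hg2
        have h1 : s = 1 := by
          have h2 : f7 ((p d).1 * (p e).1⁻¹) = ψ s := by rw [← hn, ← hgx, hs']
          have h3 : F ((p d).1 * (p e).1⁻¹, 1) = F (1, s) := by
            rw [hF1]; show f7 _ * ψ 1 = _
            rw [map_one, mul_one, h2]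
          exact (congrArg Prod.snd (hFi h3)).symm
        rw [h1, map_one, hg, mul_inv_eq_one] at hs'
        exact Subtype.ext hs'
      omega
  refine ⟨Subgroup.zpowers x7, by rw [Nat.card_zpowers, hox], ⟨?_⟩⟩
  have hC : Subgroup.centralizer ((Subgroup.zpowers x7 : Subgroup Spor.Co1) : Set Spor.Co1) = K := by
    rw [Subgroup.zpowers_eq_closure, Subgroup.centralizer_closure]
  exact (MulEquiv.subgroupCongr (hC.trans (le_antisymm hKH hHK))).trans (MonoidHom.ofInjective hFi).symm

end Cfsg.Agent.CoOneLocal
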